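import Cfsg.Agent.Lib.MatB.SymJ
import Mathlib.GroupTheory.Perm.Cycle.Type

/-!
# Group theory around `2 ^ 11 : M₂₄`
-/

namespace Cfsg.Lib.MatB.J4L

open Cfsg.Lib.Comp

/-- Fixed points of an automorphism of prime order. -/
theorem fix_mod {W : Type*} [Group W] [Finite W] (σ : MulAut W) {p : ℕ} (hp : p.Prime) (h : σ ^ p = 1) :
    ∃ F : Subgroup W, (∀ w, w ∈ F ↔ σ w = w) ∧ Nat.card W ≡ Nat.card F [MOD p] := by
  classical
  have := Fintype.ofFinite W
  have := Fact.mk hp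
  refine ⟨σ.toMonoidHom.eqLocus (MonoidHom.id W), fun w => Iff.rfl, ?_⟩
  have h1 := Equiv.Perm.card_fixedPoints_modEq (f := MulAction.toEndHom (M := MulAut W) (α := W) σ) (p := p) (n := 1)
    (by rw [pow_one, ← map_pow, h, map_one])
  rw [← Nat.card_eq_fintype_card, ← Nat.card_eq_fintype_card] at h1
  exact h1

/-- The same for conjugation. -/
theorem fix_conj {E : Type*} [Group E] [Finite E] {W : Subgroup E} {a : E} (ha : a ∈ Subgroup.normalizer W) {p : ℕ}
    (hp : p.Prime) (h : a ^ p = 1) :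
    ∃ F : Subgroup W, (∀ w, w ∈ F ↔ Commute a w) ∧ Nat.card W ≡ Nat.card F [MOD p] := by
  obtain ⟨F, h1, h2⟩ := fix_mod (W.normalizerMonoidHom ⟨a, ha⟩) hp (by
    rw [← map_pow, show (⟨a, ha⟩ : Subgroup.normalizer W) ^ p = 1 from Subtype.ext h, map_one])
  refine ⟨F, fun w => (h1 w).trans ?_, h2⟩
  rw [Subtype.ext_iff]
  change a * w * a⁻¹ = w ↔ _
  rw [mul_inv_eq_iff_eq_mul]; rfl

theorem l23 {E : Type*} [Group E] [Finite E] {W : Subgroup E} {a : E} (ha : a ∈ Subgroup.normalizer W) (h : a ^ 23 = 1)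
    (hc : Nat.card W ∣ 2 ^ 11) {z : E} (hz : z ∈ W) (hn : ¬ Commute a z) :
    Nat.card W = 2 ^ 11 ∧ ∀ w ∈ W, Commute a w → w = 1 := by
  obtain ⟨F, h1, h2⟩ := fix_conj ha (by norm_num) h
  obtain ⟨k, hk, e1⟩ := (Nat.dvd_prime_pow Nat.prime_two).1 hc
  obtain ⟨j, hj, e2⟩ := (Nat.dvd_prime_pow Nat.prime_two).1 (e1 ▸ F.card_subgroup_dvd_card)
  have h3 : j ≠ k := fun e => hn ((h1 ⟨z, hz⟩).1 (by
    rw [Subgroup.eq_top_of_card_eq F (by rw [e1, e2, e])]; trivial))
  rw [e1, e2] at h2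
  have h4 : k = 11 ∧ j = 0 := by
    revert h2 h3; unfold Nat.ModEq; interval_cases k <;> interval_cases j <;> simp
  refine ⟨by rw [e1, h4.1], fun w hw hc => ?_⟩
  have := (h1 ⟨w, hw⟩).2 hc
  rw [Subgroup.eq_bot_of_card_eq F (by rw [e2, h4.2]; rfl)] at this
  exact congrArg Subtype.val (Subgroup.mem_bot.1 this)

section
variable {E N : Type*} [Group E] [Finite E] [Group N] {g : E →* N} {a z : E}

theorem irr (hc : Nat.card g.ker = 2 ^ 11) (h : a ^ 23 = 1) (hz : z ∈ g.ker) (hn : ¬ Commute a z) {W : Subgroup E}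
    (hW : W ≤ g.ker) (ha : a ∈ Subgroup.normalizer W) : W = ⊥ ∨ W = g.ker := by
  refine or_iff_not_imp_left.2 fun h1 => ?_
  obtain ⟨⟨w, hw⟩, h2⟩ := Subgroup.ne_bot_iff_exists_ne_one.1 h1
  have h3 := (l23 (W := g.ker) (by rw [Subgroup.normalizer_eq_top]; trivial) h hc.dvd hz hn).2
  exact Subgroup.eq_of_le_of_card_ge hW (hc.trans (l23 ha h (hc ▸ Subgroup.card_dvd_of_le hW) hw
    fun e => h2 (Subtype.ext (h3 w (hW hw) e))).1.symm).le

theorem norm3 [IsSimpleGroup N] (hg : Function.Surjective g) (hc : Nat.card g.ker = 2 ^ 11) (h : a ^ 23 = 1)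
    (hz : z ∈ g.ker) (hn : ¬ Commute a z) (K : Subgroup E) [hK : K.Normal] : K = ⊥ ∨ K = g.ker ∨ K = ⊤ := by
  have h0 := (hK.map g hg).eq_bot_or_eq_top
  rw [Subgroup.map_eq_bot_iff] at h0
  have h1 : K.map g = ⊤ → K ⊔ g.ker = ⊤ := fun e => by rw [← Subgroup.comap_map_eq, e, Subgroup.comap_top]
  rcases irr hc h hz hn (W := K ⊓ g.ker) inf_le_right (by rw [Subgroup.normalizer_eq_top]; trivial) with h2 | h2
  · rcases h0 with h0 | h0
    · exact Or.inl (by rw [← h2, inf_eq_left.2 h0])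
    · exfalso
      have h3 : a ∈ ((K ⊔ g.ker : Subgroup E) : Set E) := by rw [h1 h0]; trivial
      rw [Subgroup.mul_normal] at h3
      obtain ⟨k, hk, v, hv, rfl⟩ := h3
      have hcm := Subgroup.commute_of_normal_of_disjoint K g.ker hK inferInstance (disjoint_iff.2 h2)
      have h4 : v ^ 2 ^ 11 = 1 := by
        rw [← hc]; exact congrArg Subtype.val (pow_card_eq_one' (x := (⟨v, hv⟩ : g.ker)))
      have h5 : (k * v) ^ 2 ^ 11 = k * v := by
        rw [show 2 ^ 11 = 23 * 89 + 1 by norm_num, pow_succ, pow_mul, h, one_pow, one_mul]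
      refine hn (hcm (k * v) _ ?_ hz)
      rw [← h5, (hcm k v hk hv).mul_pow, h4, mul_one]
      exact K.pow_mem hk _
  · rcases h0 with h0 | h0
    · exact Or.inr (Or.inl (by rw [← h2, inf_eq_left.2 h0]))
    · exact Or.inr (Or.inr (by rw [← h1 h0, sup_eq_left.2 (inf_eq_right.1 h2)]))

end

theorem card_dvd {G : Type*} [Group G] [Finite G] (K M : Subgroup G) [K.Normal] :
    Nat.card K ∣ M.index * Nat.card (K ⊓ M : Subgroup G) := by
  have h1 := Subgroup.relIndex_sup_right M K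
  have h2 := (K.subgroupOf (M ⊔ K)).index_mul_card
  have h3 := (K.subgroupOf M).index_mul_card
  have e1 : Nat.card (K.subgroupOf (M ⊔ K)) = Nat.card K :=
    Nat.card_congr (Subgroup.subgroupOfEquivOfLe le_sup_right).toEquiv
  have e2 : Nat.card (K.subgroupOf M) = Nat.card (K ⊓ M : Subgroup G) := by
    rw [← Subgroup.inf_subgroupOf_right]
    exact Nat.card_congr (Subgroup.subgroupOfEquivOfLe inf_le_right).toEquiv
  unfold Subgroup.relIndex at h1
  rw [e1, h1] at h2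
  rw [e2] at h3
  have h4 : Nat.card (M ⊔ K : Subgroup G) ∣ M.index * Nat.card M := by
    rw [M.index_mul_card]; exact Subgroup.card_subgroup_dvd_card _
  rw [← h2, ← h3, mul_left_comm] at h4
  exact Nat.dvd_of_mul_dvd_mul_left (Nat.pos_of_ne_zero Subgroup.FiniteIndex.index_ne_zero) h4

theorem sum_exact {α : Type*} {l : List α} {f g : α → ℕ} (h : ∀ v ∈ l, f v ≤ g v) (e : (l.map g).sum ≤ (l.map f).sum) :
    ∀ v ∈ l, f v = g v := by
  induction l with
  | nil => simp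
  | cons a t ih =>
    have h1 := h a (by simp)
    have h2 : (t.map f).sum ≤ (t.map g).sum := List.sum_le_sum fun v hv => h v (by simp [hv])
    simp only [List.map_cons, List.sum_cons] at e
    intro v hv
    rcases List.mem_cons.1 hv with rfl | hv
    · omega
    · exact ih (fun v hv => h v (by simp [hv])) (by omega) v hv

theorem card_le_sum {α X : Type*} {l : List α} {S : α → Set X} (h : ∀ v ∈ l, (S v).Finite) :
    {y | ∃ v ∈ l, y ∈ S v}.Finite ∧ {y | ∃ v ∈ l, y ∈ S v}.ncard ≤ (l.map fun v => (S v).ncard).sum := by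
  induction l with
  | nil => simp
  | cons v t ih =>
    have e : {y | ∃ w ∈ v :: t, y ∈ S w} = S v ∪ {y | ∃ w ∈ t, y ∈ S w} := by ext y; simp
    obtain ⟨h1, h2⟩ := ih fun w hw => h w (by simp [hw])
    rw [e]
    exact ⟨(h v (by simp)).union h1, (Set.ncard_union_le _ _).trans (by
      rw [List.map_cons, List.sum_cons]; exact Nat.add_le_add_left h2 _)⟩

theorem orbit_phi {Γ Δ X : Type*} [Group Γ] [Group Δ] [MulAction Γ X] (φ : Δ →* Γ) {N : Subgroup Γ} (h : φ.range = N)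
    (y : X) : (letI : MulAction Δ X := MulAction.compHom _ φ; MulAction.orbit Δ y) = MulAction.orbit N y := by
  subst h
  ext z
  exact ⟨fun ⟨g, e⟩ => ⟨⟨φ g, g, rfl⟩, e⟩, fun ⟨⟨_, g, rfl⟩, e⟩ => ⟨g, e⟩⟩

end Cfsg.Lib.MatB.J4L
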