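import Cfsg.Agent.Lib.MatB.Heis
import Cfsg.Agent.Lib.Comp.Subst3

/-!
# Matrices over the field with two elements, packed into one natural number
-/

namespace Cfsg.Lib.MatB.F2

open Cfsg.Lib.Comp

/-- Bit `p` of `A`. -/
def bt (A p : ℕ) : ZMod 2 := if A.testBit p then 1 else 0

theorem bt_xor (A B p : ℕ) : bt (A ^^^ B) p = bt A p + bt B p := by
  unfold bt; rw [Nat.testBit_xor]; cases A.testBit p <;> cases B.testBit p <;> rfl

theorem bt_inj {A B p q : ℕ} (h : bt A p = bt B q) : A.testBit p = B.testBit q := by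
  unfold bt at h; revert h; cases A.testBit p <;> cases B.testBit q <;> decide

theorem land_rep_succ {n : ℕ} (hn : 0 < n) (r D : ℕ) :
    D &&& rep n (r + 1) = 2 ^ n * ((D >>> n) &&& rep n r) + D % 2 := by
  have e : rep n (r + 1) = 2 ^ n * rep n r + 1 := by
    change rep n r <<< n + 1 = _; rw [Nat.shiftLeft_eq, mul_comm]
  have h1 : 1 < 2 ^ n := Nat.one_lt_two_pow hn.ne'
  apply Nat.eq_of_testBit_eq
  intro p
  rw [Nat.testBit_and, e, Nat.testBit_two_pow_mul_add _ h1, Nat.testBit_two_pow_mul_add _ (by omega)]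
  split_ifs with h
  · rw [← Nat.testBit_and, Nat.and_one_is_mod]
  · rw [Nat.testBit_and, Nat.testBit_shiftRight, show n + (p - n) = p by omega]

theorem bit_mask_mul {n b k : ℕ} (hb : b < 2 ^ n) (hk : k < n) (r D i : ℕ) :
    ((D &&& rep n r) * b).testBit (i * n + k) = (decide (i < r) && (D.testBit (i * n) && b.testBit k)) := by
  induction r generalizing D i with
  | zero => simp [rep]
  | succ r ih =>
    rw [land_rep_succ (by omega), add_mul, mul_assoc,
      Nat.testBit_two_pow_mul_add _ (lt_of_le_of_lt (by have := Nat.mod_lt D two_pos; nlinarith) hb)]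
    cases i with
    | zero =>
      rw [if_pos (by omega), zero_mul, zero_add, Nat.testBit_zero]
      rcases Nat.mod_two_eq_zero_or_one D with h | h <;> simp [h]
    | succ i =>
      rw [if_neg (by nlinarith), show (i + 1) * n + k - n = i * n + k by rw [add_mul]; omega, ih,
        Nat.testBit_shiftRight, show n + i * n = (i + 1) * n by ring]
      simp

/-- Rows of `A` (selected by `R`) times the matrix `B`. -/
noncomputable def mmR (n R A B : ℕ) : ℕ :=
  Nat.rec (motive := fun _ => ℕ) 0 (fun j ih => force ih fun c =>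
    Nat.xor c (Nat.mul (Nat.land (Nat.shiftRight A j) R) (look B n j))) n

theorem bt_mmR {n r i k : ℕ} (hi : i < r) (hk : k < n) (A B : ℕ) :
    bt (mmR n (rep n r) A B) (i * n + k) = ∑ j ∈ Finset.range n, bt A (i * n + j) * bt B (j * n + k) := by
  suffices h : ∀ m, bt (Nat.rec (motive := fun _ => ℕ) 0 (fun j ih => force ih fun c =>
      Nat.xor c (Nat.mul (Nat.land (Nat.shiftRight A j) (rep n r)) (look B n j))) m) (i * n + k) =
      ∑ j ∈ Finset.range m, bt A (i * n + j) * bt B (j * n + k) from h n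
  intro m
  induction m with
  | zero => simp [bt]
  | succ m ih =>
    rw [Finset.sum_range_succ, ← ih]
    refine (bt_xor _ _ _).trans (congrArg _ ?_)
    change bt (((A >>> m) &&& rep n r) * look B n m) _ = _
    unfold bt
    rw [bit_mask_mul (look_lt _ _ _) hk, testBit_look, Nat.testBit_shiftRight, add_comm m, mul_comm n m]
    simp only [hi, hk, decide_true, Bool.true_and]
    cases A.testBit (i * n + m) <;> cases B.testBit (m * n + k) <;> rfl

/-- The matrix coded by `A`. -/
def tM (n A : ℕ) : Matrix (Fin n) (Fin n) (ZMod 2) := Matrix.of fun i j => bt A (i * n + j)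

/-- The vector coded by `v`. -/
def tV (n v : ℕ) : Fin n → ZMod 2 := fun j => bt v j

/-- Product with forced arguments. -/
noncomputable def mu (n R A B : ℕ) : ℕ := force A fun a => force B fun b => mmR n R a b

theorem tM_mu (n A B : ℕ) : tM n (mu n (rep n n) A B) = tM n A * tM n B := by
  ext i k
  rw [Matrix.mul_apply]
  exact (bt_mmR i.2 k.2 A B).trans (Finset.sum_range fun j => bt A (i * n + j) * bt B (j * n + k))

theorem tV_mu (n v B : ℕ) : tV n (mu n 1 v B) = Matrix.vecMul (tV n v) (tM n B) := by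
  ext k
  have := bt_mmR (n := n) (r := 1) (i := 0) Nat.one_pos k.2 v B
  simp only [zero_mul, zero_add] at this
  rw [show rep n 1 = 1 by simp [rep]] at this
  unfold Matrix.vecMul dotProduct
  exact this.trans (Finset.sum_range fun j => bt v j * bt B (j * n + k))

theorem tV_ne {n v w : ℕ} (h : Nat.beq (look v n 0) (look w n 0) = false) : tV n v ≠ tV n w := fun e => by
  rw [← Bool.not_eq_true, beq_tt] at h
  refine h (Nat.eq_of_testBit_eq fun j => ?_)
  rw [testBit_look, testBit_look]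
  by_cases hj : j < n
  · simpa [hj] using bt_inj (congrFun e ⟨j, hj⟩)
  · simp [hj]

theorem tM_ne {n A B i : ℕ} (hi : i < n) (h : Nat.beq (look A n i) (look B n i) = false) : tM n A ≠ tM n B := fun e => by
  rw [← Bool.not_eq_true, beq_tt] at h
  refine h (Nat.eq_of_testBit_eq fun j => ?_)
  rw [testBit_look, testBit_look, mul_comm]
  by_cases hj : j < n
  · simpa [hj] using bt_inj (congrFun (congrFun e ⟨i, hi⟩) ⟨j, hj⟩)
  · simp [hj]

/-- The constants. -/
structure Cx (n R I : ℕ) : Prop where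
  hR : R = rep n n
  hI : tM n I = 1

theorem cx_of {n R I : ℕ} (h : cnd (Nat.beq R (rep n n))
    (allN n fun i => Nat.beq (look I n i) (Nat.shiftLeft 1 i)) false = true) : Cx n R I := by
  rw [cnd_tt, beq_tt] at h
  refine ⟨h.1, ?_⟩
  ext i j
  have := congrArg (Nat.testBit · j) (beq_tt.1 (allN_iff.1 h.2 i i.2))
  simp only [testBit_look, j.2, decide_true, Bool.true_and, shl_eq, Nat.one_shiftLeft, Nat.testBit_two_pow] at this
  change bt I (i * n + j) = _
  rw [bt, mul_comm, this, Matrix.one_apply]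
  simp [Fin.ext_iff]

/-- `A` codes `u`. -/
def Rp (n : ℕ) (u : GL (Fin n) (ZMod 2)) (A : ℕ) : Prop := (u : Matrix (Fin n) (Fin n) (ZMod 2)) = tM n A

/-- Value of a word. -/
noncomputable def evM (n R I : ℕ) (T : ℕ → ℕ) (w : List ℕ) : ℕ :=
  List.rec (motive := fun _ => ℕ) I (fun x _ ih => mu n R (T x) ih) w

/-- Powers. -/
noncomputable def pwM (n R I A e : ℕ) : ℕ := force A fun a => Nat.rec (motive := fun _ => ℕ) I (fun _ ih => mu n R a ih) e

open Classical in
/-- The letters as invertible matrices. -/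
noncomputable def uv (n : ℕ) (T : ℕ → ℕ) (x : ℕ) : GL (Fin n) (ZMod 2) :=
  if h : IsUnit (tM n (T x)) then h.unit else 1

noncomputable def ivM (n R I : ℕ) (T iv : ℕ → ℕ) : Bool :=
  cnd (Nat.beq (T 0) I) (allN 64 fun x => cnd (Nat.ble (iv x) 63) (Nat.beq (mu n R (T (iv x)) (T x)) I) false) false

noncomputable def relM (n R I : ℕ) (T : ℕ → ℕ) (Q : List (List ℕ × ℕ)) : Bool :=
  allL Q fun r => cnd (small r.1) (Nat.beq (pwM n R I (evM n R I T r.1) (Nat.succ r.2)) I) false

/-- Straight line programs. -/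
noncomputable def slpM (n R I : ℕ) (D : List (ℕ × ℕ)) : List ℕ → (List ℕ → Bool) → Bool :=
  List.rec (motive := fun _ => List ℕ → (List ℕ → Bool) → Bool) (fun acc K => K acc)
    (fun d _ ih acc K => force (mu n R (nth I acc d.1) (nth I acc d.2)) fun c => ih (c :: acc) K) D

section
variable {n R I A B : ℕ} {u v : GL (Fin n) (ZMod 2)} {T iv : ℕ → ℕ}

theorem Rp.eq (h : Rp n u A) (h' : Rp n v B) (e : Nat.beq A B = true) : u = v :=
  Units.ext (by rw [h, h', beq_tt.1 e])

theorem Rp.ne (h : Rp n u A) (h' : Rp n v B) {i : ℕ} (hi : i < n) (e : Nat.beq (look A n i) (look B n i) = false) :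
    u ≠ v := fun h1 => tM_ne hi e (by rw [← h, ← h', h1])

theorem Cx.one (C : Cx n R I) : Rp n 1 I := C.hI.symm

theorem Cx.mul (C : Cx n R I) (h : Rp n u A) (h' : Rp n v B) : Rp n (u * v) (mu n R A B) := by
  rw [Rp, C.hR, tM_mu, ← h, ← h', Units.val_mul]

theorem Cx.pow (C : Cx n R I) (h : Rp n u A) (e : ℕ) : Rp n (u ^ e) (pwM n R I A e) := by
  induction e with
  | zero => exact C.one
  | succ e ih => rw [pow_succ']; exact C.mul h ih

theorem Rp.vec (h : Rp n u A) (w : ℕ) :
    tV n (mu n 1 w A) = Matrix.vecMul (tV n w) (u : Matrix (Fin n) (Fin n) (ZMod 2)) := by rw [tV_mu, h]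

theorem Cx.ivok (C : Cx n R I) (h : ivM n R I T iv = true) : IvOK (uv n T) iv ∧ ∀ x < 64, Rp n (uv n T x) (T x) := by
  unfold ivM at h
  rw [cnd_tt, beq_tt] at h
  have h1 : ∀ x < 64, iv x < 64 ∧ tM n (T (iv x)) * tM n (T x) = 1 := fun x hx => by
    have := allN_iff.1 h.2 x hx
    rw [cnd_tt, ble_tt, beq_tt] at this
    exact ⟨by omega, by rw [← tM_mu, ← C.hR, this.2, C.hI]⟩
  have h2 : ∀ x < 64, Rp n (uv n T x) (T x) := fun x hx => by
    unfold uv Rp; rw [dif_pos ((Matrix.isUnit_iff_isUnit_det _).2 (Matrix.isUnit_det_of_left_inverse (h1 x hx).2))]; rfl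
  refine ⟨⟨(h2 0 (by norm_num)).eq C.one (beq_tt.2 h.1), fun x hx => ⟨(h1 x hx).1, ?_⟩⟩, h2⟩
  rw [eq_inv_iff_mul_eq_one]
  exact Units.ext (by rw [Units.val_mul, h2 x hx, h2 _ (h1 x hx).1, (h1 x hx).2]; rfl)

theorem Cx.ev (C : Cx n R I) {δ : ℕ → GL (Fin n) (ZMod 2)} (h : ∀ x < 64, Rp n (δ x) (T x)) {w : List ℕ}
    (hw : small w = true) : Rp n (ev δ w) (evM n R I T w) := by
  replace hw := small_lt hw
  induction w with
  | nil => exact C.one
  | cons x t ih => rw [ev_cons]; exact C.mul (h x (hw x (by simp))) (ih fun y hy => hw y (by simp [hy]))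

theorem Cx.rels (C : Cx n R I) {δ : ℕ → GL (Fin n) (ZMod 2)} (h : ∀ x < 64, Rp n (δ x) (T x))
    {Q : List (List ℕ × ℕ)} (hQ : relM n R I T Q = true) : Rels δ Q := fun r hr => by
  have := allL_iff.1 hQ r hr
  rw [cnd_tt] at this
  exact (C.pow (C.ev h this.1) _).eq C.one this.2

variable {Γ : Type*} [Group Γ] {f : Γ →* GL (Fin n) (ZMod 2)} {H : Subgroup Γ}

/-- `A` codes an element of `H`. -/
def In (n : ℕ) (f : Γ →* GL (Fin n) (ZMod 2)) (H : Subgroup Γ) (A : ℕ) : Prop := ∃ g ∈ H, Rp n (f g) A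

theorem Cx.nth (C : Cx n R I) {acc : List ℕ} (h : ∀ A ∈ acc, In n f H A) (i : ℕ) : In n f H (nth I acc i) := by
  rcases nth_mem I acc i with e | e
  · rw [e]; exact ⟨1, H.one_mem, by rw [map_one]; exact C.one⟩
  · exact h _ e

theorem Cx.slp (C : Cx n R I) {D : List (ℕ × ℕ)} {acc : List ℕ} {K : List ℕ → Bool} (h : ∀ A ∈ acc, In n f H A)
    (hb : slpM n R I D acc K = true) : ∃ l, K l = true ∧ ∀ i, In n f H (Comp.nth I l i) := by
  induction D generalizing acc with
  | nil => exact ⟨acc, hb, C.nth h⟩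
  | cons d t ih =>
    refine ih (acc := mu n R (Comp.nth I acc d.1) (Comp.nth I acc d.2) :: acc) (fun A hA => ?_) hb
    rcases List.mem_cons.1 hA with rfl | hA
    · obtain ⟨a, a1, a2⟩ := C.nth h d.1
      obtain ⟨b, b1, b2⟩ := C.nth h d.2
      exact ⟨a * b, H.mul_mem a1 b1, by rw [map_mul]; exact C.mul a2 b2⟩
    · exact h A hA

/-- An element of prime order. -/
noncomputable def ordB (n R I A p i : ℕ) : Bool :=
  force A fun a => cnd (Nat.beq (look a n i) (look I n i)) false (Nat.beq (pwM n R I a p) I)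

theorem Cx.ord (C : Cx n R I) (h : Rp n u A) {p i : ℕ} (hp : p.Prime) (hi : i < n) (hb : ordB n R I A p i = true) :
    orderOf u = p := by
  have := Fact.mk hp
  replace hb := cnd_ff.1 ((force_eq _ _).symm.trans hb)
  exact orderOf_eq_prime ((C.pow h p).eq C.one hb.2) (h.ne C.one hi hb.1)

theorem Cx.dvd (C : Cx n R I) (h : In n f H A) {p i : ℕ} (hp : p.Prime) (hi : i < n) (hb : ordB n R I A p i = true) :
    p ∣ Nat.card H := by
  obtain ⟨g, g1, g2⟩ := h
  rw [← C.ord g2 hp hi hb]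
  exact (orderOf_map_dvd f g).trans (H.orderOf_dvd_natCard g1)

end

theorem cube_dvd {G : Type*} [Group G] {p : ℕ} (hp : p.Prime) {a b z : G} (h : b * a = a * b * z)
    (ha : Commute a z) (hb : Commute b z) (pa : a ^ p = 1) (pb : b ^ p = 1) (pz : z ^ p = 1) (hz : z ≠ 1)
    {H : Subgroup G} (h1 : a ∈ H) (h2 : b ∈ H) : p ^ 3 ∣ Nat.card H := by
  have := Fact.mk hp
  let φ := He.hom h ha hb pa pb pz
  have hz' : z ∈ H := by
    rw [show z = (a * b)⁻¹ * (b * a) by rw [h]; group]; exact H.mul_mem (H.inv_mem (H.mul_mem h1 h2)) (H.mul_mem h2 h1)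
  have hr : φ.range ≤ H := by
    rintro _ ⟨u, rfl⟩
    exact H.mul_mem (H.mul_mem (H.pow_mem h1 _) (H.pow_mem h2 _)) (H.pow_mem hz' _)
  refine Dvd.dvd.trans ?_ (Subgroup.card_dvd_of_le hr)
  have h3 : Nat.card φ.range ∣ p ^ 3 := by
    rw [← He.card, ← Nat.card_eq_fintype_card]; exact Subgroup.card_range_dvd φ
  obtain ⟨k, hk, e⟩ := (Nat.dvd_prime_pow hp).1 h3
  have ea : φ ⟨1, 0, 0⟩ = a := by
    change a ^ (1 : ZMod p).val * b ^ (0 : ZMod p).val * z ^ (0 : ZMod p).val = a
    simp [ZMod.val_one]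
  have eb : φ ⟨0, 1, 0⟩ = b := by
    change a ^ (0 : ZMod p).val * b ^ (1 : ZMod p).val * z ^ (0 : ZMod p).val = b
    simp [ZMod.val_one]
  have hc : ¬ ∀ x y : φ.range, x * y = y * x := fun hc => hz (by
    have := congrArg Subtype.val (hc ⟨a, _, ea⟩ ⟨b, _, eb⟩)
    change a * b = b * a at this
    rw [← this] at h
    exact (mul_eq_left.1 h.symm))
  rw [e]
  refine pow_dvd_pow _ (by_contra fun h4 => hc ?_)
  obtain rfl | rfl | rfl : k = 0 ∨ k = 1 ∨ k = 2 := by omega
  · have : Finite φ.range := Nat.finite_of_card_ne_zero (by rw [e]; simp)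
    have := (Nat.card_eq_one_iff_unique.1 e).1
    exact fun _ _ => Subsingleton.elim _ _
  · have := isCyclic_of_prime_card (e.trans (pow_one p))
    exact fun x y => (IsCyclic.commutative).is_comm.comm x y
  · exact fun x y => IsPGroup.commutative_of_card_eq_prime_sq e x y

end Cfsg.Lib.MatB.F2
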