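import Cfsg.Agent.Lib.MatB.J4L
import Cfsg.Agent.Lib.Comp.Simple

/-!
# Group theory around `2 ^ (1 + 8) . A₉`
-/

namespace Cfsg.Lib.MatB.ThL

open Cfsg.Lib.Comp

theorem card_map_ker {P Q : Type*} [Group P] [Group Q] (f : P →* Q) (K : Subgroup P) :
    Nat.card (K.map f) * Nat.card (f.ker ⊓ K : Subgroup P) = Nat.card K := by
  rw [← Subgroup.relIndex_ker, ← (f.ker.subgroupOf K).index_mul_card, ← Subgroup.inf_subgroupOf_right f.ker,
    Nat.card_congr (Subgroup.subgroupOfEquivOfLe inf_le_right).toEquiv, Subgroup.inf_subgroupOf_right]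
  rfl

theorem two_proj {E A B : Type*} [Group E] [Finite E] [Group A] [Group B] (f : E →* A) (g : E →* B)
    (hs : IsSimpleGroup f.range) (h : f.ker ⊓ g.ker = ⊥) (hc : Nat.card f.ker < Nat.card g.range) :
    Function.Injective g := by
  have h0 := (g.normal_ker.map _ f.rangeRestrict_surjective).eq_bot_or_eq_top
  rw [Subgroup.map_eq_bot_iff, MonoidHom.ker_rangeRestrict] at h0
  rcases h0 with h0 | h0
  · rw [← MonoidHom.ker_eq_bot_iff, ← h, inf_eq_right.2 h0]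
  · have h1 : g.ker ⊔ f.ker = ⊤ := by
      rw [← f.ker_rangeRestrict, ← Subgroup.comap_map_eq, h0, Subgroup.comap_top]
    rw [MonoidHom.range_eq_map, ← h1, Subgroup.map_sup, (Subgroup.map_eq_bot_iff _).2 le_rfl, bot_sup_eq] at hc
    exact absurd hc (not_lt.2 (Nat.le_of_dvd Nat.card_pos (Subgroup.card_map_dvd _ _)))

theorem inv_sum {X α : Type*} [Finite X] {l : List α} {S : α → Set X} {f : α → ℕ} (h1 : ∀ v ∈ l, (S v).ncard ≤ f v)
    (h2 : ∀ y, ∃ v ∈ l, y ∈ S v) (h3 : (l.map f).sum ≤ Nat.card X) (O : Set X)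
    (hO : ∀ v ∈ l, S v ⊆ O ∨ S v ⊆ Oᶜ) : O.ncard ∈ sums (l.map f) := by
  have key : ∃ a ∈ sums (l.map f), ∃ b, a + b = (l.map f).sum ∧ (O ∩ {y | ∃ v ∈ l, y ∈ S v}).ncard ≤ a ∧
      (Oᶜ ∩ {y | ∃ v ∈ l, y ∈ S v}).ncard ≤ b := by
    clear h2 h3
    induction l with
    | nil => simp [sums]
    | cons v t ih =>
      obtain ⟨a, ha, b, e, k1, k2⟩ := ih (fun w hw => h1 w (by simp [hw])) fun w hw => hO w (by simp [hw])
      have e1 : {y | ∃ w ∈ v :: t, y ∈ S w} = S v ∪ {y | ∃ w ∈ t, y ∈ S w} := by ext y; simp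
      have e2 : ∀ U : Set X, (U ∩ (S v ∪ {y | ∃ w ∈ t, y ∈ S w})).ncard ≤ f v + (U ∩ {y | ∃ w ∈ t, y ∈ S w}).ncard :=
        fun U => by
          rw [Set.inter_union_distrib_left]
          exact (Set.ncard_union_le _ _).trans (Nat.add_le_add_right
            ((Set.ncard_le_ncard Set.inter_subset_right).trans (h1 v (by simp))) _)
      have e3 : ∀ U : Set X, S v ⊆ Uᶜ → U ∩ (S v ∪ {y | ∃ w ∈ t, y ∈ S w}) = U ∩ {y | ∃ w ∈ t, y ∈ S w} := fun U hU => by
        rw [Set.inter_union_distrib_left, Set.inter_comm U, (Set.subset_compl_iff_disjoint_right.1 hU).inter_eq,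
          Set.empty_union]
      rw [e1, List.map_cons, List.sum_cons]
      rcases hO v (by simp) with h | h
      · exact ⟨f v + a, List.mem_append_right _ (List.mem_map_of_mem ha), b, by omega, (e2 _).trans (by omega),
          by rwa [e3 _ (by rwa [compl_compl])]⟩
      · exact ⟨a, List.mem_append_left _ ha, f v + b, by omega, by rwa [e3 _ h], (e2 _).trans (by omega)⟩
  obtain ⟨a, ha, b, e, k1, k2⟩ := key
  rw [Set.eq_univ_of_forall (s := {y | ∃ v ∈ l, y ∈ S v}) h2, Set.inter_univ] at k1 k2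
  have := Set.ncard_add_ncard_compl O
  rwa [show O.ncard = a by omega]

/-- The orbit of a normal subgroup on the cosets of `H`. -/
theorem normal_orbit {G : Type*} [Group G] (K H : Subgroup G) [hK : K.Normal] :
    (MulAction.orbit K ((1 : G) : G ⧸ H)).ncard ∣ Nat.card K ∧
      ((MulAction.orbit K ((1 : G) : G ⧸ H)).ncard = 1 → K ≤ H) ∧ ∀ y : G ⧸ H,
      MulAction.orbit H y ⊆ MulAction.orbit K ((1 : G) : G ⧸ H) ∨
        MulAction.orbit H y ⊆ (MulAction.orbit K ((1 : G) : G ⧸ H))ᶜ := by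
  have h : ∀ (h : H) (y : G ⧸ H), y ∈ MulAction.orbit K ((1 : G) : G ⧸ H) →
      h • y ∈ MulAction.orbit K ((1 : G) : G ⧸ H) := by
    rintro h _ ⟨k, rfl⟩
    refine ⟨⟨h * k * h⁻¹, hK.conj_mem _ k.2 _⟩, ?_⟩
    change ((h : G) * k * (h⁻¹ : H)) • ((1 : G) : G ⧸ H) = (h : G) • (k : G) • ((1 : G) : G ⧸ H)
    rw [mul_smul, smul_one_of_mem.2 (h⁻¹).2, mul_smul]
  refine ⟨MulAction.index_stabilizer K ((1 : G) : G ⧸ H) ▸ Subgroup.index_dvd_card _, fun e k hk => ?_, fun y => ?_⟩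
  · obtain ⟨a, ha⟩ := Set.ncard_eq_one.1 e
    have h1 : ∀ z ∈ MulAction.orbit K ((1 : G) : G ⧸ H), z = a := fun z hz => by rwa [ha] at hz
    exact smul_one_of_mem.1 ((h1 _ ⟨⟨k, hk⟩, rfl⟩).trans (h1 _ (MulAction.mem_orbit_self _)).symm)
  · by_cases hy : y ∈ MulAction.orbit K ((1 : G) : G ⧸ H)
    · exact Or.inl fun _ ⟨g, e⟩ => e ▸ h g y hy
    · exact Or.inr fun _ ⟨g, e⟩ hz => hy (by simpa [← e] using h g⁻¹ _ hz)

end Cfsg.Lib.MatB.ThL
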