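import Cfsg.Agent.Lib.MatB.Basic
import Mathlib.Data.Finite.Perm

/-!
# A simple subgroup of small prime index is the commutator subgroup
-/

namespace Cfsg.Lib.MatB

open Subgroup

theorem iso_comm_prime {G H : Type*} [Group G] [Group H] [IsSimpleGroup G] [Finite G] (hG : ¬ (Nat.card G).Prime)
    {f : G →* H} (hf : Function.Injective f) {p : ℕ} (hp : p.Prime) (hc : Nat.card H = p * Nat.card G)
    (hl : p.factorial < Nat.card G) : Nonempty (G ≃* commutator H) := by
  have h0 : Finite H := Nat.finite_of_card_ne_zero (hc ▸ Nat.mul_ne_zero hp.ne_zero Nat.card_pos.ne')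
  have h1 : f.range.index = p := by
    have := f.range.index_mul_card
    rw [hc, ← Nat.card_congr (MonoidHom.ofInjective hf).toEquiv] at this
    exact Nat.eq_of_mul_eq_mul_right Nat.card_pos this
  have h2 : f.range.Normal := by
    rcases IsSimpleGroup.eq_bot_or_eq_top_of_normal (f.range.normalCore.comap f) inferInstance with h | h
    · let g := (MulAction.toPermHom H (H ⧸ f.range)).comp f
      have h3 : Function.Injective g := by
        rw [← MonoidHom.ker_eq_bot_iff, ← MonoidHom.comap_ker, ← normalCore_eq_ker, h]
      have h4 := Nat.card_le_card_of_injective g h3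
      rw [Nat.card_perm, ← index_eq_card, h1] at h4
      omega
    · have h3 : f.range.normalCore = f.range := le_antisymm (normalCore_le _) (by
        rintro _ ⟨a, rfl⟩; exact (h ▸ mem_top a : a ∈ f.range.normalCore.comap f))
      exact h3 ▸ inferInstance
  have h3 : f.range = commutator H := by
    refine le_antisymm (by rintro _ ⟨a, rfl⟩; exact range_le_commutator (not_comm_of_card hG) f a) ?_
    have := Fact.mk hp
    have : IsCyclic (H ⧸ f.range) := isCyclic_of_prime_card (p := p) h1
    exact (Normal.quotient_commutative_iff_commutator_le).1 inferInstance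
  exact ⟨(MonoidHom.ofInjective hf).trans (MulEquiv.subgroupCongr h3)⟩

end Cfsg.Lib.MatB
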