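import Cfsg.Agent.Lib.MatB.Mult
import Mathlib.GroupTheory.GroupAction.MultipleTransitivity

/-!
# Heisenberg groups modulo `p` inside a group; counting fixed points
-/

set_option maxHeartbeats 400000

namespace Cfsg.Lib.MatB

open Subgroup MulAction Cfsg.Lib.Comp

/-- Triples `aⁱ bʲ zᵏ` with `b a = a b z`. -/
@[ext] structure He (p : ℕ) where
  i : ZMod p
  j : ZMod p
  k : ZMod p
  deriving DecidableEq

namespace He

variable {p : ℕ}

instance instGroup : Group (He p) where
  mul u v := ⟨u.i + v.i, u.j + v.j, u.k + v.k + u.j * v.i⟩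
  one := ⟨0, 0, 0⟩
  inv u := ⟨-u.i, -u.j, -u.k + u.j * u.i⟩
  mul_assoc u v w := He.ext (add_assoc ..) (add_assoc ..) (by
    show u.k + v.k + u.j * v.i + w.k + (u.j + v.j) * w.i = u.k + (v.k + w.k + v.j * w.i) + u.j * (v.i + w.i); ring)
  one_mul u := He.ext (zero_add _) (zero_add _) (by show 0 + u.k + 0 * u.i = u.k; ring)
  mul_one u := He.ext (add_zero _) (add_zero _) (by show u.k + 0 + u.j * 0 = u.k; ring)
  inv_mul_cancel u := He.ext (neg_add_cancel _) (neg_add_cancel _)
    (by show -u.k + u.j * u.i + u.k + -u.j * u.i = 0; ring)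

theorem mul_def (u v : He p) : u * v = ⟨u.i + v.i, u.j + v.j, u.k + v.k + u.j * v.i⟩ := rfl
theorem inv_def (u : He p) : u⁻¹ = ⟨-u.i, -u.j, -u.k + u.j * u.i⟩ := rfl
theorem one_def : (1 : He p) = ⟨0, 0, 0⟩ := rfl

/-- Coordinates. -/
def eqv (p : ℕ) : He p ≃ ZMod p × ZMod p × ZMod p :=
  ⟨fun u => (u.i, u.j, u.k), fun x => ⟨x.1, x.2.1, x.2.2⟩, fun _ => rfl, fun _ => rfl⟩

instance instFintype [NeZero p] : Fintype (He p) := Fintype.ofEquiv _ (eqv p).symm

theorem card [NeZero p] : Fintype.card (He p) = p ^ 3 := by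
  rw [Fintype.card_congr (eqv p)]; simp [pow_succ, mul_assoc]

variable {G : Type*} [Group G]

theorem pow_val_add [NeZero p] {a : G} (h : a ^ p = 1) (x y : ZMod p) : a ^ (x + y).val = a ^ x.val * a ^ y.val := by
  rw [ZMod.val_add, ← pow_eq_pow_mod _ h, pow_add]

theorem pow_val_mul {a : G} (h : a ^ p = 1) (x y : ZMod p) : a ^ (x * y).val = a ^ (x.val * y.val) := by
  rw [ZMod.val_mul, ← pow_eq_pow_mod _ h]

theorem swap_pow {a b z : G} (h : b * a = a * b * z) (ha : Commute a z) (hb : Commute b z) (m n : ℕ) :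
    b ^ m * a ^ n = a ^ n * b ^ m * z ^ (m * n) := by
  have h1 : ∀ n : ℕ, b * a ^ n = a ^ n * b * z ^ n := fun n => by
    induction n with
    | zero => simp
    | succ n ih =>
      rw [pow_succ, ← mul_assoc, ih, mul_assoc _ (z ^ n), ← (ha.pow_right n).eq, ← mul_assoc, mul_assoc _ b, h, pow_succ' z]
      simp only [mul_assoc]
  induction m with
  | zero => simp
  | succ m ih =>
    rw [pow_succ', mul_assoc, ih, ← mul_assoc, ← mul_assoc, h1, add_mul, one_mul, add_comm, pow_add,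
      mul_assoc _ (z ^ n), ← (hb.pow_pow m n).eq]
    simp only [mul_assoc]

/-- The homomorphism defined by three elements. -/
def hom [NeZero p] {a b z : G} (h : b * a = a * b * z) (ha : Commute a z) (hb : Commute b z) (pa : a ^ p = 1)
    (pb : b ^ p = 1) (pz : z ^ p = 1) : He p →* G :=
  MonoidHom.mk' (fun u => a ^ u.i.val * b ^ u.j.val * z ^ u.k.val) fun u v => by
    simp only [mul_def, pow_val_add pa, pow_val_add pb, pow_val_add pz, pow_val_mul pz]
    have e1 := swap_pow h ha hb u.j.val v.i.val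
    have e2 := (((ha.pow_left v.i.val).mul_left (hb.pow_left v.j.val)).pow_right u.k.val).eq
    have e3 := (hb.pow_pow v.j.val (u.j.val * v.i.val)).eq
    have e4 : z ^ u.k.val * z ^ v.k.val * z ^ (u.j.val * v.i.val) =
        z ^ (u.j.val * v.i.val) * (z ^ u.k.val * z ^ v.k.val) := by
      rw [← pow_add, ← pow_add, ← pow_add, add_comm]
    calc _ = a ^ u.i.val * (a ^ v.i.val * b ^ u.j.val * (b ^ v.j.val * z ^ (u.j.val * v.i.val))) *
          (z ^ u.k.val * z ^ v.k.val) := by rw [e4]; simp only [mul_assoc]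
      _ = a ^ u.i.val * b ^ u.j.val * (a ^ v.i.val * b ^ v.j.val * z ^ u.k.val) * z ^ v.k.val := by
          rw [e3, ← mul_assoc _ (z ^ _) (b ^ _), ← e1]; simp only [mul_assoc]
      _ = _ := by rw [e2]; simp only [mul_assoc]

end He

/-! ### Fixed points -/

section Fix
variable {G : Type*} [Group G] {Ω : Type*} [MulAction G Ω]

/-- Number of fixed points. -/
noncomputable def nfix (Ω : Type*) [MulAction G Ω] (g : G) : ℕ := Nat.card (fixedBy Ω g)

theorem nfix_conj {g h : G} (e : IsConj g h) : nfix Ω g = nfix Ω h := by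
  obtain ⟨c, rfl⟩ := isConj_iff.1 e
  unfold nfix
  rw [← smul_fixedBy, Set.natCard_smul_set]

theorem nfix_one : nfix Ω (1 : G) = Nat.card Ω := by simp [nfix]

theorem nfix_lt [Finite Ω] [FaithfulSMul G Ω] {g : G} (h : g ≠ 1) : nfix Ω g < Nat.card Ω := by
  have : fixedBy Ω g ≠ Set.univ := fun e => h (eq_of_smul_eq_smul (α := Ω) fun x => by
    rw [one_smul]; exact (e ▸ Set.mem_univ x : x ∈ fixedBy Ω g))
  exact Finite.card_subtype_lt ((Set.ne_univ_iff_exists_notMem _).1 this).choose_spec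

variable {A : Type*} [Group A] [Fintype A]

theorem card_dvd_sum_nfix [Finite Ω] (φ : A →* G) : Fintype.card A ∣ ∑ a, nfix Ω (φ a) := by
  classical
  let _ := MulAction.compHom Ω φ
  have := Fintype.ofFinite Ω
  have h := sum_card_fixedBy_eq_card_orbits_mul_card_group A Ω
  simp only [← Nat.card_eq_fintype_card (α := fixedBy _ _)] at h
  exact Dvd.intro_left _ h.symm

theorem sum_nfix_le [Finite Ω] (φ : A →* G) {s : ℕ} (h : ∀ x : Ω, Nat.card ((stabilizer G x).comap φ) ≤ s) :
    ∑ a, nfix Ω (φ a) ≤ Nat.card Ω * s := by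
  classical
  have := Fintype.ofFinite Ω
  have h1 : ∀ a, nfix Ω (φ a) = ∑ x : Ω, if φ a • x = x then 1 else 0 := fun a => by
    rw [nfix, Nat.card_eq_fintype_card, Fintype.card_subtype, Finset.card_filter]; rfl
  rw [Finset.sum_congr rfl fun a _ => h1 a, Finset.sum_comm, Nat.card_eq_fintype_card, ← smul_eq_mul]
  refine Finset.sum_le_card_nsmul _ _ _ fun x _ => le_trans (le_of_eq ?_) (h x)
  rw [Nat.card_eq_fintype_card, Fintype.card_subtype, Finset.card_filter]; rfl

theorem fix_of_two [Finite Ω] {T : Set Ω} (hT : Nat.card T ≤ 2) {g : G} {m : ℕ} (hm : g ^ (2 * m + 1) = 1)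
    (hg : ∀ x ∈ T, g • x ∈ T) {x : Ω} (hx : x ∈ T) : g • x = x := by
  by_contra h
  have h2 : g • g • x = x := by
    by_contra h2
    have h3 : ({x, g • x, g • g • x} : Set Ω) ⊆ T := by
      rintro y (rfl | rfl | rfl)
      exacts [hx, hg _ hx, hg _ (hg _ hx)]
    have h4 := Set.ncard_le_ncard h3
    rw [Set.ncard_eq_three.2 ⟨_, _, _, Ne.symm h, Ne.symm h2, fun e => h (smul_left_cancel g e).symm, rfl⟩] at h4
    exact absurd (h4.trans hT) (by norm_num)
  have h3 : g ^ 2 ∈ stabilizer G x := by rw [mem_stabilizer_iff, sq, mul_smul, h2]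
  have h4 := (stabilizer G x).pow_mem h3 m
  rw [← pow_mul, eq_inv_of_mul_eq_one_left ((pow_succ g _).symm.trans hm), inv_mem_iff] at h4
  exact h h4

end Fix

/-! ### Two applications -/

section App
variable {G : Type*} [Group G] {Ω : Type*} [MulAction G Ω] [Finite Ω]

set_option maxRecDepth 100000 in
theorem tits_arith : ∀ n < 4241, n * (n - 1) ∣ 17971200 → n ≤ 27 ∨ n = 40 ∨ n = 65 := by decide +kernel

theorem He.pow_five : ∀ v : He 5, v ^ 5 = 1 := by decide +kernel

theorem no_two_trans [FaithfulSMul G Ω] (hG : Nat.card G = 17971200) (φ : He 3 →* G) (ψ : He 5 →* G) {x y : G}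
    (hx : x ≠ 1) (hy : y ≠ 1) (h3 : ∀ u ≠ 1, IsConj (φ u) x) (h5 : ∀ u, ¬ (u.i = 0 ∧ u.j = 0) → IsConj (ψ u) y)
    (hz : ∀ u, u.i = 0 ∧ u.j = 0 → ψ u = 1) {t : G} (ht : IsConj t x) (t3 : t ^ 3 = 1) {v : He 5}
    (hv : ¬ (v.i = 0 ∧ v.j = 0)) (e : t * ψ ⟨1, 0, 0⟩ * t⁻¹ = ψ v) (hΩ : 3 ≤ Nat.card Ω) :
    ¬ IsMultiplyPretransitive G Ω 2 := fun h => by
  classical
  have : Finite G := Nat.finite_of_card_ne_zero (by rw [hG]; norm_num)
  have l3 := nfix_lt (Ω := Ω) hx
  have l5 := nfix_lt (Ω := Ω) hy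
  have s3 : ∑ u, nfix Ω (φ u) = Nat.card Ω + 26 * nfix Ω x := by
    rw [← Finset.add_sum_erase _ _ (Finset.mem_univ 1), map_one, nfix_one,
      Finset.sum_congr rfl fun u hu => nfix_conj (h3 u (Finset.ne_of_mem_erase hu)), Finset.sum_const,
      Finset.card_erase_of_mem (Finset.mem_univ _), Finset.card_univ, He.card]
    rfl
  have s5 : ∑ u, nfix Ω (ψ u) = 5 * Nat.card Ω + 120 * nfix Ω y := by
    rw [← Finset.sum_filter_add_sum_filter_not _ fun u : He 5 => u.i = 0 ∧ u.j = 0,
      Finset.sum_congr rfl fun u hu => by rw [hz u (Finset.mem_filter.1 hu).2, nfix_one],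
      Finset.sum_congr rfl fun u hu => nfix_conj (h5 u (Finset.mem_filter.1 hu).2), Finset.sum_const, Finset.sum_const]
    congr 2
  have d3 := card_dvd_sum_nfix (Ω := Ω) φ
  have d5 := card_dvd_sum_nfix (Ω := Ω) ψ
  rw [s3, He.card] at d3
  rw [s5, He.card] at d5
  have := Fintype.ofFinite Ω
  have h2 : Nat.card Ω * (Nat.card Ω - 1) ∣ 17971200 := by
    have h1 : Nonempty (Fin 2 ↪ Ω) := Function.Embedding.nonempty_of_card_le (by
      rw [Fintype.card_fin, ← Nat.card_eq_fintype_card]; omega)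
    obtain ⟨f⟩ := h1
    have h4 := (stabilizer G f).index_dvd_card
    rw [index_stabilizer_of_transitive, hG, Nat.card_eq_fintype_card, Fintype.card_embedding_eq, Fintype.card_fin,
      ← Nat.card_eq_fintype_card] at h4
    simpa [Nat.descFactorial, mul_comm] using h4
  have h4 : Nat.card Ω < 4241 := by
    have := Nat.le_of_dvd (by norm_num) h2
    by_contra h5
    have : 4241 * 4240 ≤ Nat.card Ω * (Nat.card Ω - 1) := Nat.mul_le_mul (by omega) (by omega)
    omega
  have h6 := tits_arith _ h4 h2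
  by_cases h7 : Nat.card Ω ≤ 27
  · have f3 : nfix Ω x = 0 := by omega
    have f5 : nfix Ω y = 2 := by omega
    have c1 : Nat.card (fixedBy Ω (ψ ⟨1, 0, 0⟩)) = 2 := (nfix_conj (h5 _ (by decide))).trans f5
    have c2 : Nat.card (fixedBy Ω (ψ v)) = 2 := (nfix_conj (h5 _ hv)).trans f5
    have c3 : fixedBy Ω (ψ ⟨1, 0, 0⟩) = fixedBy Ω (ψ v) := by
      refine Set.eq_of_subset_of_ncard_le (fun w hw => ?_) (c2.trans c1.symm).le
      refine fix_of_two c1.le (m := 2) (by rw [← map_pow, He.pow_five, map_one]) (fun w hw => ?_) hw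
      have : ψ ⟨1, 0, 0⟩ * ψ v = ψ v * ψ ⟨1, 0, 0⟩ := by
        rw [← mul_inv_eq_one, ← map_mul, ← map_mul, ← map_inv, ← map_mul]
        exact hz _ (by simp only [He.mul_def, He.inv_def]; constructor <;> ring)
      rw [mem_fixedBy, ← mul_smul, this, mul_smul, mem_fixedBy.1 hw]
    obtain ⟨w, hw⟩ : (fixedBy Ω (ψ ⟨1, 0, 0⟩)).Nonempty := Set.nonempty_of_ncard_ne_zero (c1.trans_ne two_ne_zero)
    have c4 := fix_of_two c1.le (m := 1) t3 (fun w hw => by
      rw [c3, ← e, ← smul_fixedBy]; exact Set.smul_mem_smul_set hw) hw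
    have c5 : nfix Ω t ≠ 0 := Set.ncard_ne_zero_of_mem (a := w) c4
    exact c5 ((nfix_conj ht).trans f3)
  · have h1 : IsPretransitive G Ω := is_one_pretransitive_iff.1 (isMultiplyPretransitive_of_le (n := 2) (by norm_num)
      (by omega))
    have h8 := sum_nfix_le (Ω := Ω) ψ (s := 25) fun w => by
      have c1 := ((stabilizer G w).comap ψ).card_subgroup_dvd_card
      rw [Nat.card_eq_fintype_card (α := He 5), He.card] at c1
      obtain ⟨k, hk, c2⟩ := (Nat.dvd_prime_pow (by norm_num)).1 c1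
      rw [c2]
      by_contra c3
      obtain rfl : k = 3 := by interval_cases k <;> omega
      have c4 : (stabilizer G w).comap ψ = ⊤ := eq_top_of_card_eq _ (by
        rw [c2, Nat.card_eq_fintype_card, He.card])
      have c5 : Nat.card ψ.range ∣ Nat.card (stabilizer G w) := card_dvd_of_le (by
        rintro _ ⟨u, rfl⟩; exact (c4 ▸ mem_top u : u ∈ (stabilizer G w).comap ψ))
      have c6 : Nat.card ψ.ker = 5 := by
        rw [Nat.card_congr (Equiv.subtypeEquivRight (p := (· ∈ ψ.ker)) (q := fun u : He 5 => u.i = 0 ∧ u.j = 0) fun u =>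
          ⟨fun (h : ψ u = 1) => by_contra fun h' => hy (isConj_one_right.1 (h ▸ h5 u h')), hz u⟩), Nat.card_eq_fintype_card]
        decide +kernel
      have c7 := ψ.ker.card_mul_index
      rw [index_ker, c6, Nat.card_eq_fintype_card (α := He 5), He.card] at c7
      have c8 := (stabilizer G w).card_mul_index
      rw [index_stabilizer_of_transitive, hG] at c8
      rw [show Nat.card ψ.range = 25 by omega] at c5
      rcases h6 with h6 | h6 | h6
      · exact h7 h6
      all_goals rw [h6] at c8; omega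
    omega

theorem line_card : ∀ a b : ZMod 5, ¬ (a = 0 ∧ b = 0) →
    Fintype.card {x : ZMod 5 × ZMod 5 // a * x.2 = b * x.1} ≤ 5 := by decide +kernel

theorem stab_det {S : Subgroup (He 5)} (hS : (⟨0, 0, 1⟩ : He 5) ∉ S) {u v : He 5} (hu : u ∈ S) (hv : v ∈ S) :
    u.i * v.j = u.j * v.i ∧ (u.i = v.i ∧ u.j = v.j → u = v) := by
  have key : ∀ c : ZMod 5, (⟨0, 0, c⟩ : He 5) ∈ S → c = 0 := fun c hc => by_contra fun h => hS (by
    have : ∀ c : ZMod 5, c ≠ 0 → ∃ n < 5, (⟨0, 0, c⟩ : He 5) ^ n = ⟨0, 0, 1⟩ := by decide +kernel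
    obtain ⟨n, -, e⟩ := this c h
    exact e ▸ S.pow_mem hc n)
  refine ⟨?_, fun h => He.ext h.1 h.2 ?_⟩
  · have := key (u.j * v.i - u.i * v.j) (by
      convert S.mul_mem (S.mul_mem hu hv) (S.inv_mem (S.mul_mem hv hu)) using 1
      simp only [He.mul_def, He.inv_def]; ext <;> ring)
    exact (sub_eq_zero.1 this).symm
  · have := key (u.k - v.k) (by
      convert S.mul_mem hu (S.inv_mem hv) using 1
      simp only [He.mul_def, He.inv_def, h.1, h.2]; ext <;> ring)
    exact sub_eq_zero.1 this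

theorem stab_card {S : Subgroup (He 5)} (hS : (⟨0, 0, 1⟩ : He 5) ∉ S) : 25 ≤ S.index := by
  have h1 := S.card_mul_index
  rw [Nat.card_eq_fintype_card (α := He 5), He.card] at h1
  have h2 : Nat.card S ≤ 5 := by
    rcases S.bot_or_exists_ne_one with h | ⟨u, hu, h⟩
    · simp [h]
    · have h3 := line_card u.i u.j fun e => h ((stab_det hS hu S.one_mem).2 e)
      rw [← Nat.card_eq_fintype_card] at h3
      refine le_trans (Nat.card_le_card_of_injective (fun v => ⟨(v.1.i, v.1.j), (stab_det hS hu v.2).1⟩) fun v w e => ?_) h3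
      exact Subtype.ext ((stab_det hS v.2 w.2).2 (Prod.mk.inj (congrArg Subtype.val e)))
  nlinarith

theorem fifty_le (φ : He 5 →* G) {t : G} {τ : He 5 → He 5} (hτ : ∀ u, t * φ u * t⁻¹ = φ (τ u))
    (h1 : ∀ u, ¬ (u.i = 0 ∧ u.j = 0) → u.i * (τ u).j ≠ u.j * (τ u).i) {c : ℕ} (h2 : τ ⟨0, 0, 1⟩ = ⟨0, 0, 1⟩ ^ c)
    {m : Ω} (hm : φ ⟨0, 0, 1⟩ • m ≠ m) : 50 ≤ Nat.card Ω := by
  let _ := MulAction.compHom Ω φ
  have e : ∀ (u : He 5) (x : Ω), u • x = φ u • x := fun _ _ => rfl
  have e1 : ∀ u, τ u • t • m = t • u • m := fun u => by rw [e, e, ← hτ, mul_smul, mul_smul, inv_smul_smul]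
  have z1 : (⟨0, 0, 1⟩ : He 5) ∉ stabilizer (He 5) m := hm
  have z2 : (⟨0, 0, 1⟩ : He 5) ∉ stabilizer (He 5) (t • m) := fun h => hm (smul_left_cancel t (by
    rw [← e, ← e1, h2]; exact (stabilizer _ _).pow_mem h c))
  have c1 := stab_card z1
  have c2 := stab_card z2
  rw [index_stabilizer] at c1 c2
  by_cases h : t • m ∈ orbit (He 5) m
  · obtain ⟨g, hg⟩ := h
    have h3 : stabilizer (He 5) m = ⊥ := (eq_bot_iff_forall _).2 fun u hu => by_contra fun hu' => by
      have h4 : g⁻¹ * τ u * g ∈ stabilizer (He 5) m := by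
        rw [mem_stabilizer_iff, mul_smul, mul_smul, show g • m = t • m from hg, e1, mem_stabilizer_iff.1 hu,
          ← show g • m = t • m from hg, inv_smul_smul]
      refine h1 u (fun e => hu' ((stab_det z1 hu (one_mem _)).2 e)) ?_
      have := (stab_det z1 hu h4).1
      simp only [He.mul_def, He.inv_def] at this
      linear_combination this
    have h4 := index_stabilizer (He 5) m
    rw [h3, index_bot, Nat.card_eq_fintype_card, He.card] at h4
    have := Set.ncard_le_ncard (Set.subset_univ (orbit (He 5) m))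
    rw [Set.ncard_univ] at this
    omega
  · have h3 : Disjoint (orbit (He 5) (t • m)) (orbit (He 5) m) := (orbit.eq_or_disjoint _ _).resolve_left fun e =>
      h (e ▸ mem_orbit_self _)
    have := Set.ncard_le_ncard (Set.subset_univ (orbit (He 5) (t • m) ∪ orbit (He 5) m))
    rw [Set.ncard_univ, Set.ncard_union_eq h3] at this
    omega

end App

/-! ### Words -/

section Words
variable {N k : ℕ} {nets : List Net} {L : List ℕ}

/-- The value of a word in the group generated by the letters `L`. -/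
noncomputable abbrev wv (nets : List Net) (L w : List ℕ) : cl (gp nets) L := ev (sval (cl (gp nets) L) (gp nets)) w

/-- Equality of two words. -/
noncomputable def weq (N k : ℕ) (nets : List Net) (L u w : List ℕ) : Bool :=
  cnd (subB u L) (cnd (subB w L) (eqB N k 0 k nets u 0 w) false) false

theorem coe_wv {w : List ℕ} (h : subB w L = true) : (wv nets L w : Equiv.Perm ℕ) = ev (gp nets) w :=
  coe_ev_sval fun x hx => mem_cl (sub_of_subB h x hx)

theorem wv_eq (hN : NetsOK N nets) (hk : N ≤ 2 ^ k) {u w : List ℕ} (h : weq N k nets L u w = true) :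
    wv nets L u = wv nets L w := by
  unfold weq at h
  rw [cnd_tt, cnd_tt] at h
  exact Subtype.ext (by rw [coe_wv h.1, coe_wv h.2.1, ← eq_of_eqB hN hk h.2.2, zero_add, pow_one])

theorem wv_ne (hN : NetsOK N nets) {u : List ℕ} (hu : subB u L = true) {A : ℕ}
    (h : Nat.beq (wimg nets u A) (wimg nets [] A) = false) : wv nets L u ≠ 1 := fun e =>
  ne_of_wimg hN h (by rw [← coe_wv hu, e]; rfl)

/-- Repetition of a word. -/
noncomputable def rp (w : List ℕ) (n : ℕ) : List ℕ := Nat.rec (motive := fun _ => List ℕ) [] (fun _ ih => apd w ih) n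

theorem ev_apd {Γ : Type*} [Monoid Γ] (γ : ℕ → Γ) (u w : List ℕ) : ev γ (apd u w) = ev γ u * ev γ w := by
  rw [apd_eq, ev_append]

theorem ev_rp {Γ : Type*} [Monoid Γ] (γ : ℕ → Γ) (w : List ℕ) (n : ℕ) : ev γ (rp w n) = ev γ w ^ n := by
  induction n with
  | zero => exact (pow_zero _).symm
  | succ n ih => exact (ev_apd γ w _).trans (by rw [pow_succ']; exact congrArg _ ih)

/-- The word `aⁱ bʲ zᵏ`. -/
noncomputable def hw {p : ℕ} (a b z : List ℕ) (u : He p) : List ℕ :=
  apd (apd (rp a u.i.val) (rp b u.j.val)) (rp z u.k.val)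

/-- The relations of a Heisenberg group. -/
noncomputable def heB (N k : ℕ) (nets : List Net) (L : List ℕ) (p : ℕ) (a b z : List ℕ) : Bool :=
  allL [(apd b a, apd (apd a b) z), (apd a z, apd z a), (apd b z, apd z b), (rp a p, []), (rp b p, []), (rp z p, [])]
    fun r => weq N k nets L r.1 r.2

theorem exists_he (hN : NetsOK N nets) (hk : N ≤ 2 ^ k) {p : ℕ} [NeZero p] {a b z : List ℕ}
    (h : heB N k nets L p a b z = true) : ∃ φ : He p →* cl (gp nets) L, ∀ u, φ u = wv nets L (hw a b z u) := by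
  have h1 := fun r hr => wv_eq hN hk (allL_iff.1 h r hr)
  simp only [List.forall_mem_cons, wv, ev_apd, ev_rp, ev_nil] at h1
  obtain ⟨h1, h2, h3, h4, h5, h6, -⟩ := h1
  exact ⟨He.hom h1 h2 h3 h4 h5 h6, fun u => by simp only [wv, hw, ev_apd, ev_rp]; rfl⟩

theorem isConj_wv (hN : NetsOK N nets) (hk : N ≤ 2 ^ k) {c u x : List ℕ}
    (h : weq N k nets L (apd c u) (apd x c) = true) : IsConj (wv nets L u) (wv nets L x) := by
  have := wv_eq hN hk h
  simp only [wv, ev_apd] at this
  exact isConj_iff.2 ⟨_, mul_inv_eq_of_eq_mul this⟩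

end Words

end Cfsg.Lib.MatB
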