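import Cfsg.Agent.Lib.MatB.Heis

/-!
# A second permutation action of a presented permutation group
-/

namespace Cfsg.Lib.MatB

open Cfsg.Lib.Comp

theorem exists_act2 {N n m : ℕ} {nets n2 : List Net} {iv : ℕ → ℕ} {R : List (List ℕ × ℕ)} {L ops : List ℕ}
    (ho : Ord.{0} iv R L m) (h1 : IvOK (gp nets) iv) (h2 : Rels (gp nets) R) (hm : m ≤ Nat.card (cl (gp nets) L))
    (hN : NetsOK N n2) (h3 : IvOK (gp n2) iv) (h4 : Rels (gp n2) R) (ht : transB n2 L ops n = true) :
    ∃ f : cl (gp nets) L →* Equiv.Perm ℕ, (∀ w, subB w L = true → f (wv nets L w) = ev (gp n2) w) ∧ TransOn f n := by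
  obtain ⟨f, hf⟩ := hom_of_ord.{0, 0} ho h1 h2 h3 h4 hm
  have h5 : ∀ w, subB w L = true → f (wv nets L w) = ev (gp n2) w := fun w hw =>
    (congrArg f (Subtype.ext (coe_wv hw))).trans (hf w (sub_of_subB hw))
  refine ⟨f, h5, transOn_of_transB hN ?_ ht⟩
  rw [MonoidHom.range_eq_map, ← cl_sval_top]
  refine map_cl_of_gen fun x hx => ?_
  have := hf [x] (by simpa using hx)
  rw [ev_single (gp n2)] at this
  rw [← this]
  exact congrArg f (Subtype.ext ((coe_sval (mem_cl hx)).trans (ev_single _ x).symm))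

end Cfsg.Lib.MatB
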