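import Cfsg.Agent.Lib.MatB.F2

/-!
# More checks for packed matrices over the field with two elements
-/

namespace Cfsg.Lib.MatB.F2

open Cfsg.Lib.Comp

variable {n R I A B Z : ℕ} {Γ : Type*} [Group Γ] {f : Γ →* GL (Fin n) (ZMod 2)} {H : Subgroup Γ}

/-- `A` and `B` commute. -/
noncomputable def comB (n R A B : ℕ) : Bool := Nat.beq (mu n R A B) (mu n R B A)

theorem Cx.com (C : Cx n R I) {u v : GL (Fin n) (ZMod 2)} (h : Rp n u A) (h' : Rp n v B) (e : comB n R A B = true) :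
    Commute u v := (C.mul h h').eq (C.mul h' h) e

/-- Generators of an extraspecial group of order `p ^ 3`. -/
noncomputable def cubeB (n R I A B Z p i : ℕ) : Bool :=
  cnd (Nat.beq (mu n R B A) (mu n R (mu n R A B) Z)) (cnd (comB n R A Z) (cnd (comB n R B Z)
    (cnd (Nat.beq (pwM n R I A p) I) (cnd (Nat.beq (pwM n R I B p) I) (ordB n R I Z p i) false) false) false) false) false

theorem Cx.cube (C : Cx n R I) (ha : In n f H A) (hb : In n f H B) (hz : In n f H Z) {p i : ℕ} (hp : p.Prime)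
    (hi : i < n) (h : cubeB n R I A B Z p i = true) : p ^ 3 ∣ Nat.card f.range := by
  obtain ⟨a, -, ha⟩ := ha
  obtain ⟨b, -, hb⟩ := hb
  obtain ⟨z, -, hz⟩ := hz
  unfold cubeB at h
  simp only [cnd_tt] at h
  have h6 := C.ord hz hp hi h.2.2.2.2.2
  exact cube_dvd hp ((C.mul hb ha).eq (C.mul (C.mul ha hb) hz) h.1) (C.com ha hz h.2.1) (C.com hb hz h.2.2.1)
    ((C.pow ha p).eq C.one h.2.2.2.1) ((C.pow hb p).eq C.one h.2.2.2.2.1)
    (h6 ▸ pow_orderOf_eq_one _) (fun e => by rw [e, orderOf_one] at h6; exact hp.one_lt.ne h6) ⟨a, rfl⟩ ⟨b, rfl⟩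

end Cfsg.Lib.MatB.F2
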