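import Cfsg.Agent.Lib.MatB.SymJ
import Cfsg.Agent.Lib.MatB.J4L

/-!
# Centraliser orders from the number of fixed cosets
-/

namespace Cfsg.Lib.MatB.FixC

open MulAction Subgroup Cfsg.Lib.Comp

theorem card_pre {K Y : Type*} [Group K] [MulAction K Y] (y : Y) (T : Set Y) :
    Nat.card {k : K | k • y ∈ T} = (T ∩ orbit K y).ncard * Nat.card (stabilizer K y) := by
  have h := QuotientGroup.card_preimage_mk (stabilizer K y) (ofQuotientStabilizer K y ⁻¹' T)
  rw [mul_comm, Nat.card_coe_set_eq (ofQuotientStabilizer K y ⁻¹' T),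
    ← Set.ncard_image_of_injective _ (injective_ofQuotientStabilizer K y), Set.image_preimage_eq_inter_range] at h
  have e : Set.range (ofQuotientStabilizer K y) = orbit K y := Set.ext fun z =>
    ⟨fun ⟨q, e⟩ => e ▸ ofQuotientStabilizer_mem_orbit K y q, fun ⟨g, e⟩ => ⟨g, e⟩⟩
  rw [← e, ← h]; rfl

theorem card_cls {K : Type*} [Group K] (a : K) (S : Set K) : Nat.card {k : K | k⁻¹ * a * k ∈ S} =
    {b | b ∈ S ∧ IsConj b a}.ncard * Nat.card (centralizer {a}) := by
  have h := card_pre (K := ConjAct K) a S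
  rw [← nat_card_centralizer_nat_card_stabilizer] at h
  rw [show {b | b ∈ S ∧ IsConj b a} = S ∩ orbit (ConjAct K) a from
    Set.ext fun b => and_congr_right fun _ => ConjAct.mem_orbit_conjAct.symm, ← h]
  exact Nat.card_congr (((Equiv.inv K).trans ConjAct.toConjAct.toEquiv).subtypeEquiv fun k => by
    simp [ConjAct.smul_def])

theorem fix_orbit {K Y : Type*} [Group K] [MulAction K Y] (a : K) (y : Y) :
    (fixedBy Y a ∩ orbit K y).ncard * Nat.card (stabilizer K y) =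
      {b | b ∈ (stabilizer K y : Set K) ∧ IsConj b a}.ncard * Nat.card (centralizer {a}) := by
  rw [← card_pre, ← card_cls]
  congr 2
  ext k
  simp only [Set.mem_ofPred_eq, mem_fixedBy, SetLike.mem_coe, mem_stabilizer_iff, mul_smul, inv_smul_eq_iff]

theorem fix_quot {K : Type*} [Group K] (H : Subgroup K) (a : K) :
    (fixedBy (K ⧸ H) a).ncard * Nat.card H = {b | b ∈ H ∧ IsConj b a}.ncard * Nat.card (centralizer {a}) := by
  have h := fix_orbit a ((1 : K) : K ⧸ H)
  rwa [orbit_eq_univ, Set.inter_univ, stabilizer_quotient] at h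

/-- Many conjugates, from the images of a point. -/
theorem cls_lb {G : Subgroup (Equiv.Perm ℕ)} {Γ : Type*} [Group Γ] [Finite Γ] {φ : G →* Γ} (hφ : Function.Injective φ)
    {H : Subgroup Γ} (hH : φ.range ≤ H) {z : Γ} {p q a n : ℕ}
    (h : ∀ r, a ≤ r → r < a + n → ∃ g ∈ G, g p = p ∧ g q = r) {l : List G} (hl : l.Nodup)
    (h1 : ∀ b ∈ l, (b : Equiv.Perm ℕ)⁻¹ p = q ∧ IsConj (φ b) z) : n * l.length ≤ {b | b ∈ H ∧ IsConj b z}.ncard := by
  classical
  choose! t ht using fun r : Finset.Ico a (a + n) => h r (Finset.mem_Ico.1 r.2).1 (Finset.mem_Ico.1 r.2).2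
  let s : Finset.Ico a (a + n) → G := fun r => ⟨t r, (ht r).1⟩
  let F : Finset.Ico a (a + n) × l.toFinset → {b | b ∈ H ∧ IsConj b z} := fun d =>
    ⟨φ (s d.1 * d.2 * (s d.1)⁻¹), hH ⟨_, rfl⟩, IsConj.trans (φ.map_isConj (isConj_iff.2 ⟨s d.1, rfl⟩).symm)
      (h1 _ (List.mem_toFinset.1 d.2.2)).2⟩
  have k : ∀ r (b : l.toFinset), ((s r * b * (s r)⁻¹ : G) : Equiv.Perm ℕ)⁻¹ p = r := fun r b => by
    have e : (t r)⁻¹ p = p := by rw [Equiv.Perm.inv_eq_iff_eq, (ht r).2.1]
    simp only [s, coe_mul, coe_inv, mul_inv_rev, inv_inv, Equiv.Perm.mul_apply, e,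
      (h1 _ (List.mem_toFinset.1 b.2)).1, (ht r).2.2]
  have hF : Function.Injective F := by
    rintro ⟨i, x⟩ ⟨j, y⟩ e
    have e1 := hφ (congrArg Subtype.val e)
    have e2 : i = j := Subtype.ext (by rw [← k i x, ← k j y, e1])
    subst e2
    exact Prod.ext rfl (Subtype.ext (mul_left_cancel (mul_right_cancel e1)))
  have := Nat.card_le_card_of_injective F hF
  rwa [Nat.card_prod, Nat.card_eq_finsetCard, Nat.card_eq_finsetCard, Nat.card_Ico, Nat.add_sub_cancel_left,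
    List.toFinset_card_of_nodup hl] at this

/-- Strictly increasing, from `p` on. -/
noncomputable def incB (l : List ℕ) : ℕ → Bool :=
  List.rec (motive := fun _ => ℕ → Bool) (fun _ => true) (fun a _ ih p => cnd (Nat.ble p a) (ih (Nat.succ a)) false) l

theorem incB_nodup {l : List ℕ} {p : ℕ} (h : incB l p = true) : (∀ a ∈ l, p ≤ a) ∧ l.Nodup := by
  induction l generalizing p with
  | nil => simp
  | cons a t ih =>
    obtain ⟨h1, h2⟩ := cnd_tt.1 (show cnd (Nat.ble p a) (incB t (Nat.succ a)) false = true from h)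
    obtain ⟨h3, h4⟩ := ih h2
    rw [ble_tt] at h1
    exact ⟨List.forall_mem_cons.2 ⟨h1, fun b hb => by have := h3 b hb; omega⟩,
      List.nodup_cons.2 ⟨fun e => by have := h3 a e; omega, h4⟩⟩

/-- A key for a list of points. -/
noncomputable def kv (l : List ℕ) : ℕ :=
  List.rec (motive := fun _ => ℕ) 0 (fun a _ ih => Nat.add a (Nat.shiftLeft ih 16)) l

/-- The conjugate of `z` by `t`. -/
noncomputable def cw (iv : ℕ → ℕ) (z t : List ℕ) : List ℕ := apd t (apd z (invA iv t []))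

/-- Distinct conjugates of `z`, with their values at the points `P`. -/
noncomputable def clsB (tb : ℕ → ℕ → ℕ) (L : List ℕ) (iv : ℕ → ℕ) (z P : List ℕ) (A : List (List ℕ × List ℕ)) : Bool :=
  allL A fun d => cnd (subB d.1 L) (decide (mapL (wap tb (cw iv z d.1)) P = d.2)) false

/-- The values lie in the given sets. -/
noncomputable def tst (S : List (ℕ × ℕ)) (d : List ℕ × List ℕ) : Bool := allL S fun e => Nat.testBit e.2 (nth 0 d.2 e.1)

/-- The sets are invariant. -/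
noncomputable def masB (nets : List Net) (F : ℕ → SF) (P : List ℕ) (S : ℕ → List (ℕ × ℕ)) (v : SN) : Bool :=
  allL (S v.1) fun e => cnd (Nat.testBit e.2 (nth 0 P e.1)) (cnd (Nat.ble (Nat.succ e.1) P.length)
    (allL v.2.1 fun j => Nat.beq (wimg nets (F j).2.2.2.2 e.2) e.2) false) false

theorem nth_map {f : ℕ → ℕ} {P : List ℕ} {i : ℕ} (h : i < P.length) : nth 0 (P.map f) i = f (nth 0 P i) := by
  induction P generalizing i with
  | nil => simp at h
  | cons a t ih =>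
    cases i with
    | zero => rfl
    | succ i => exact ih (by simpa using h)

variable {N : ℕ} {nets : List Net} {tb : ℕ → ℕ → ℕ} {B L : List ℕ} {iv : ℕ → ℕ} {G : Subgroup (Equiv.Perm ℕ)}
  {z P : List ℕ} {A : List (List ℕ × List ℕ)}

theorem cw_eq (C : Ctl nets tb B L iv G) {t : List ℕ} (ht : ∀ a ∈ t, a ∈ L) :
    evG nets G (cw iv z t) = evG nets G t * evG nets G z * (evG nets G t)⁻¹ := by
  rw [cw, evG_apd, evG_apd, C.inv ht, evG_nil, mul_one, mul_assoc]

theorem cw_sub (C : Ctl nets tb B L iv G) (hz : ∀ a ∈ z, a ∈ L) {t : List ℕ} (ht : ∀ a ∈ t, a ∈ L) :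
    ∀ a ∈ cw iv z t, a ∈ L := by
  simp only [cw, apd_eq, invA_eq, List.mem_append, List.mem_reverse, List.mem_map, List.not_mem_nil, or_false]
  rintro a (h | h | ⟨b, h, rfl⟩)
  exacts [ht a h, hz a h, (C.hiv b (ht b h)).1]

theorem cls_aux (C : Ctl nets tb B L iv G) (hz : ∀ a ∈ z, a ∈ L) (h : clsB tb L iv z P A = true)
    (hi : incB (mapL (fun d => kv d.2) A) 0 = true) :
    (∀ d ∈ A, (∀ a ∈ d.1, a ∈ L) ∧ P.map ⇑(evG nets G (cw iv z d.1) : Equiv.Perm ℕ)⁻¹ = d.2) ∧
      (A.map fun d => evG nets G (cw iv z d.1)).Nodup := by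
  have h1 : ∀ d ∈ A, (∀ a ∈ d.1, a ∈ L) ∧ P.map ⇑(evG nets G (cw iv z d.1) : Equiv.Perm ℕ)⁻¹ = d.2 := fun d hd => by
    have := allL_iff.1 h d hd
    rw [cnd_tt, decide_eq_true_eq, mapL_eq] at this
    refine ⟨sub_of_subB this.1, ?_⟩
    rw [← this.2, C.coe (cw_sub C hz (sub_of_subB this.1))]
    exact List.map_congr_left fun p _ => (wap_eq C.ht _ _).symm
  refine ⟨h1, List.Nodup.of_map (fun g : G => kv (P.map ⇑(g : Equiv.Perm ℕ)⁻¹)) ?_⟩
  rw [List.map_map, Function.comp_def, List.map_congr_left (g := fun d => kv d.2) fun d hd => congrArg kv (h1 d hd).2,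
    ← mapL_eq]
  exact (incB_nodup hi).2

theorem cls_lb' (C : Ctl nets tb B L iv G) (hz : ∀ a ∈ z, a ∈ L) {p q a n : ℕ} (h : clsB tb L iv z (p :: P) A = true)
    (hi : incB (mapL (fun d => kv d.2) A) 0 = true) (hq : allL A (fun d => Nat.beq (nth 0 d.2 0) q) = true)
    {Γ : Type*} [Group Γ] [Finite Γ] {φ : G →* Γ} (hφ : Function.Injective φ) {H : Subgroup Γ} (hH : φ.range ≤ H)
    (ho : ∀ r, a ≤ r → r < a + n → ∃ g ∈ G, g p = p ∧ g q = r) {y : Γ} (hy : IsConj (φ (evG nets G z)) y) :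
    n * A.length ≤ {b | b ∈ H ∧ IsConj b y}.ncard := by
  obtain ⟨h1, h2⟩ := cls_aux C hz h hi
  rw [← List.length_map (f := fun d => evG nets G (cw iv z d.1))]
  refine cls_lb hφ hH ho h2 fun b hb => ?_
  obtain ⟨d, hd, rfl⟩ := List.mem_map.1 hb
  refine ⟨by rw [← beq_tt.1 (allL_iff.1 hq d hd), ← (h1 d hd).2]; rfl, IsConj.trans (φ.map_isConj ?_) hy⟩
  rw [cw_eq C (h1 d hd).1]
  exact (isConj_iff.2 ⟨_, rfl⟩).symm

theorem cls_spec (C : Ctl nets tb B L iv G) [Finite G] (hz : ∀ a ∈ z, a ∈ L) (h : clsB tb L iv z P A = true)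
    (hi : incB (mapL (fun d => kv d.2) A) 0 = true)
    (hc : Nat.card G ≤ A.length * Nat.card (centralizer {evG nets G z})) :
    Nat.card G = A.length * Nat.card (centralizer {evG nets G z}) ∧ ∀ b : G, IsConj b (evG nets G z) →
      ∃ d ∈ A, evG nets G (cw iv z d.1) = b ∧ P.map ⇑(b : Equiv.Perm ℕ)⁻¹ = d.2 := by
  classical
  obtain ⟨h1, h2⟩ := cls_aux C hz h hi
  have h3 := card_cls (evG nets G z) Set.univ
  simp only [Set.mem_univ, Set.ofPred_true, Nat.card_univ, true_and] at h3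
  have h4 : ((A.map fun d => evG nets G (cw iv z d.1)).toFinset : Set G) ⊆ {b | IsConj b (evG nets G z)} := by
    intro b hb
    simp only [List.coe_toFinset, List.mem_map, Set.mem_ofPred_eq] at hb
    obtain ⟨d, hd, rfl⟩ := hb
    rw [cw_eq C (h1 d hd).1]
    exact (isConj_iff.2 ⟨_, rfl⟩).symm
  have h5 : {b | IsConj b (evG nets G z)}.ncard ≤ A.length := Nat.le_of_mul_le_mul_right (h3 ▸ hc) Nat.card_pos
  have h6 := Set.eq_of_subset_of_ncard_le h4 (by
    rwa [Set.ncard_coe_finset, List.toFinset_card_of_nodup h2, List.length_map])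
  refine ⟨by rw [h3, ← h6, Set.ncard_coe_finset, List.toFinset_card_of_nodup h2, List.length_map], fun b hb => ?_⟩
  have : b ∈ ((A.map fun d => evG nets G (cw iv z d.1)).toFinset : Set G) := h6 ▸ hb
  simp only [List.coe_toFinset, List.mem_map, Set.mem_ofPred_eq] at this
  obtain ⟨d, hd, rfl⟩ := this
  exact ⟨d, hd, rfl, (h1 d hd).2⟩

variable {X : Type*} [MulAction G X] {x : ℕ → X} {τ : X → X} {F : ℕ → SF} {nf n kk o : ℕ} {K : List ℕ}

theorem stab_eq (hN : NetsOK N nets) (C : Ctl nets tb B L iv G) [Finite G] (hF : ∀ j < nf, (F j).ok nets G L x τ)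
    (ho : Nat.card G = o) {v : SN} (h : nodeB nets tb L F nf n kk o K v = true)
    (he : (orbit G (x v.1)).ncard = v.2.2.2.2.2) : v.2.2.2.2.2 * Nat.card (stabilizer G (x v.1)) = o ∧
      (stabilizer G (x v.1)).map G.subtype = cl (fun j => ev (gp nets) (F j).2.2.2.2) v.2.1 := by
  unfold nodeB at h
  simp only [cnd_tt] at h
  obtain ⟨h1, -, -, -, h4⟩ := h
  have : Finite ((stabilizer G (x v.1)).map G.subtype) :=
    Finite.of_equiv _ ((stabilizer G (x v.1)).equivMapOfInjective _ G.subtype_injective).toEquiv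
  have h3 := (stabilizer G (x v.1)).index_mul_card
  rw [index_stabilizer, he, ho] at h3
  refine ⟨h3, (eq_of_le_of_card_ge (gen_le C hF h1) ?_).symm⟩
  rw [card_map_of_injective G.subtype_injective]
  refine Nat.le_of_mul_le_mul_left (h3.trans_le ((ble_tt.1 h4).trans (Nat.mul_le_mul_left _
    (chainW_le hN C.ht (fun j => (F j).2.2.2.2) kk v.2.2.2.2.1 v.2.1)))) (Nat.pos_of_ne_zero fun e => ?_)
  rw [e, zero_mul, ← ho] at h3
  exact Nat.card_pos.ne h3

theorem inv_spec (hN : NetsOK N nets) {S : ℕ → List (ℕ × ℕ)} {v : SN} (h : masB nets F P S v = true)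
    {g : Equiv.Perm ℕ} (hg : g ∈ cl (fun j => ev (gp nets) (F j).2.2.2.2) v.2.1) {t : List ℕ} :
    tst (S v.1) (t, P.map g) = true := allL_iff.2 fun e he => by
  have h1 := allL_iff.1 h e he
  rw [cnd_tt, cnd_tt, ble_tt, allL_iff] at h1
  let T : Subgroup (Equiv.Perm ℕ) :=
    { carrier := {s | ∀ i, e.2.testBit (s i) = e.2.testBit i}
      one_mem' := fun _ => rfl
      mul_mem' := fun ha hb i => (ha _).trans (hb i)
      inv_mem' := fun {s} ha i => by rw [← ha, app_inv] }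
  have h2 : g ∈ T := (cl_le (H := T)).2 (fun j hj => (inv_mem_iff (H := T)).1 fun i => by
    rw [← testBit_wimg hN, beq_tt.1 (h1.2.2 j hj)]) hg
  rw [nth_map h1.2.1, h2, h1.1]

theorem fix_le (hN : NetsOK N nets) (C : Ctl nets tb B L iv G) [Finite G] (hF : ∀ j < nf, (F j).ok nets G L x τ)
    (ho : Nat.card G = o) {V : List SN} (hV : allL V (nodeB nets tb L F nf n kk o K) = true)
    (he : ∀ v ∈ V, (orbit G (x v.1)).ncard = v.2.2.2.2.2) (hc : ∀ y, ∃ v ∈ V, y ∈ orbit G (x v.1)) {a : G}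
    (hA : ∀ b : G, IsConj b a → ∃ d ∈ A, evG nets G (cw iv z d.1) = b ∧ P.map ⇑(b : Equiv.Perm ℕ)⁻¹ = d.2)
    {S : ℕ → List (ℕ × ℕ)} (hS : allL V (masB nets F P S) = true) {c : ℕ} (hz : Nat.card (centralizer {a}) ≤ c) :
    (fixedBy X a).ncard ≤ (V.map fun v => A.countP (tst (S v.1)) * c * v.2.2.2.2.2 / o).sum := by
  classical
  obtain ⟨h1, h2⟩ := J4L.card_le_sum (l := V) (S := fun v => fixedBy X a ∩ orbit G (x v.1))
    fun v _ => (Set.finite_range _).inter_of_right _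
  refine ((Set.ncard_le_ncard (fun y hy => ?_) h1).trans h2).trans (List.sum_le_sum fun v hv => ?_)
  · obtain ⟨v, hv, e⟩ := hc y
    exact ⟨v, hv, hy, e⟩
  obtain ⟨k1, k2⟩ := stab_eq hN C hF ho (allL_iff.1 hV v hv) (he v hv)
  have k3 : {b | b ∈ (stabilizer G (x v.1) : Set G) ∧ IsConj b a}.ncard ≤ A.countP (tst (S v.1)) := by
    rw [List.countP_eq_length_filter, ← List.length_map (f := fun d => evG nets G (cw iv z d.1))]
    refine le_trans ?_ (List.toFinset_card_le _)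
    rw [← Set.ncard_coe_finset]
    refine Set.ncard_le_ncard (fun b hb => ?_) (Finset.finite_toSet _)
    obtain ⟨d, hd, e1, e2⟩ := hA b hb.2
    simp only [List.coe_toFinset, List.mem_map, List.mem_filter, Set.mem_ofPred_eq]
    refine ⟨d, ⟨hd, ?_⟩, e1⟩
    have := inv_spec hN (allL_iff.1 hS v hv) (t := d.1) (g := (b : Equiv.Perm ℕ)⁻¹)
      (k2 ▸ inv_mem (mem_map_of_mem G.subtype hb.1))
    rwa [e2] at this
  rw [Nat.le_div_iff_mul_le (ho ▸ Nat.card_pos), ← k1, mul_comm v.2.2.2.2.2, ← mul_assoc, fix_orbit]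
  exact Nat.mul_le_mul_right _ (Nat.mul_le_mul k3 hz)

end Cfsg.Lib.MatB.FixC
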