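import Cfsg.Agent.Lib.MatB.Gol
import Cfsg.Agent.Lib.Linear.SymPres

/-! # Tools for second cohomology computations: linear forms over `ZMod 2`, walks with signs,
kernels from order bounds -/

namespace Cfsg.Lib.MatB.H2

open Cfsg.Lib.Comp Subgroup

universe u

theorem aa (a : ZMod 2) : a + a = 0 := CharTwo.add_self_eq_zero a

/-- Value of the linear form with bit mask `n`. -/
def evy (y : ℕ → ZMod 2) (n : ℕ) : ZMod 2 := ∑ k ∈ Finset.range n, if n.testBit k then y k else 0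

variable {y : ℕ → ZMod 2}

theorem evy_eq {n B : ℕ} (h : n < 2 ^ B) : evy y n = ∑ k ∈ Finset.range B, if n.testBit k then y k else 0 := by
  have key : ∀ C, n < 2 ^ C → ∀ D, C ≤ D → ∑ k ∈ Finset.range C, (if n.testBit k then y k else 0) =
      ∑ k ∈ Finset.range D, if n.testBit k then y k else 0 := fun C hC D hD =>
    Finset.sum_subset (Finset.range_subset_range.2 hD) fun k _ hk => by
      rw [Nat.testBit_lt_two_pow (hC.trans_le (Nat.pow_le_pow_right two_pos (by simpa using hk)))]; rfl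
  exact (key n Nat.lt_two_pow_self _ (le_max_left n B)).trans (key B h _ (le_max_right n B)).symm

theorem evy_zero : evy y 0 = 0 := rfl

theorem evy_xor (a b : ℕ) : evy y (Nat.xor a b) = evy y a + evy y b := by
  have ha : a < 2 ^ (a + b) := Nat.lt_two_pow_self.trans_le (Nat.pow_le_pow_right two_pos (by omega))
  have hb : b < 2 ^ (a + b) := Nat.lt_two_pow_self.trans_le (Nat.pow_le_pow_right two_pos (by omega))
  rw [show Nat.xor a b = a ^^^ b from rfl, evy_eq (Nat.xor_lt_two_pow ha hb), evy_eq ha, evy_eq hb,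
    ← Finset.sum_add_distrib]
  refine Finset.sum_congr rfl fun k _ => ?_
  rw [Nat.testBit_xor]
  cases a.testBit k <;> cases b.testBit k <;> simp [aa]

theorem evy_shl (m c : ℕ) : evy y (Nat.shiftLeft m c) = evy (fun k => y (c + k)) m := by
  have h : m <<< c < 2 ^ (c + m) := by
    rw [Nat.shiftLeft_eq, pow_add, mul_comm]
    exact Nat.mul_lt_mul_of_pos_left Nat.lt_two_pow_self (by positivity)
  rw [shl_eq, evy_eq h, Finset.sum_range_add, Finset.sum_eq_zero, zero_add]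
  · refine Finset.sum_congr rfl fun k _ => ?_
    rw [Nat.testBit_shiftLeft]; simp
  · intro k hk
    rw [Nat.testBit_shiftLeft, decide_eq_false (by simpa using hk)]; rfl

theorem evy_one : evy y 1 = y 0 := by simp [evy]

theorem evy_congr {y' : ℕ → ZMod 2} {m B : ℕ} (h : m < 2 ^ B) (hy : ∀ k < B, y k = y' k) : evy y m = evy y' m := by
  rw [evy_eq h, evy_eq h]
  exact Finset.sum_congr rfl fun k hk => by rw [hy k (Finset.mem_range.1 hk)]

theorem evy_cnd (b : Bool) (a : ℕ) : evy y (cnd b a 0) = (if b then 1 else 0) * evy y a := by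
  cases b <;> simp [cnd, evy_zero]

/-- `f 0 ^^^ ⋯ ^^^ f (n-1)`. -/
noncomputable def xorN (n : ℕ) (f : ℕ → ℕ) : ℕ :=
  Nat.rec (motive := fun _ => ℕ) 0 (fun j ih => Nat.xor (f j) ih) n

theorem evy_xorN (n : ℕ) (f : ℕ → ℕ) : evy y (xorN n f) = ∑ j ∈ Finset.range n, evy y (f j) := by
  induction n with
  | zero => rfl
  | succ n ih => rw [Finset.sum_range_succ, ← ih]; exact (evy_xor _ _).trans (add_comm _ _)

/-- Reduction by the first `j` rows. -/
noncomputable def redN (B : List ℕ) : ℕ → ℕ → ℕ :=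
  List.rec (motive := fun _ => ℕ → ℕ → ℕ) (fun _ a => a) (fun r _ ih j a =>
    Nat.rec (motive := fun _ => ℕ) a (fun i _ => force (Nat.xor a r) fun b =>
      force (cnd (Nat.ble b a) b a) (ih i)) j) B

theorem evy_redN {B : List ℕ} {j : ℕ} (h : ∀ i < j, evy y (nth 0 B i) = 0) (a : ℕ) :
    evy y (redN B j a) = evy y a := by
  induction B generalizing j a with
  | nil => rfl
  | cons r t ih =>
    cases j with
    | zero => rfl
    | succ j =>
      have e : redN (r :: t) (j + 1) a = redN t j (cnd (Nat.ble (Nat.xor a r) a) (Nat.xor a r) a) := rfl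
      rw [e, ih fun i hi => h (i + 1) (by omega)]
      cases Nat.ble (Nat.xor a r) a
      · rfl
      · rw [cnd_true, evy_xor, show evy y r = 0 from h 0 (by omega), add_zero]

theorem rows_zero {B : List ℕ} {k : ℕ} (h : ∀ j < k, ∃ a, evy y a = 0 ∧ redN B j a = nth 0 B j) :
    ∀ j < k, evy y (nth 0 B j) = 0 := by
  intro j
  induction j using Nat.strong_induction_on with
  | _ j ih =>
    intro hj
    obtain ⟨a, h1, h2⟩ := h j hj
    rw [← h2, evy_redN fun i hi => ih i hi (by omega), h1]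

/-! ### Walks -/

/-- A "signed action": `Rel g i j u` says that `g` moves `j` to `i` with sign `u`. -/
structure Coc {E : Type*} [Group E] (Rel : E → ℕ → ℕ → ZMod 2 → Prop) : Prop where
  one : ∀ i, Rel 1 i i 0
  mul : ∀ {g h i j k u v}, Rel g i j u → Rel h j k v → Rel (g * h) i k (u + v)
  uniq : ∀ {g i j u v}, Rel g i j u → Rel g i j v → u = v

/-- Walk along a word, accumulating the forms of the edges. -/
noncomputable def walk (act F : ℕ → ℕ → ℕ) (ok k : ℕ → ℕ → Bool) (w : List ℕ) : ℕ → ℕ → Bool :=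
  List.rec (motive := fun _ => ℕ → ℕ → Bool) k (fun x _ ih i a => cnd (ok x i)
    (force (act x i) fun j => force (Nat.xor a (F x i)) fun b => ih j b) false) w

theorem walk_sound {E : Type*} [Group E] {Rel : E → ℕ → ℕ → ZMod 2 → Prop} (hc : Coc Rel) {γ : ℕ → E}
    {act F : ℕ → ℕ → ℕ} {ok k : ℕ → ℕ → Bool} {n : ℕ}
    (h : ∀ x, ∀ i < n, ok x i = true → act x i < n ∧ Rel (γ x) i (act x i) (evy y (F x i))) {w : List ℕ} {i a : ℕ}
    (hi : i < n) (hw : walk act F ok k w i a = true) :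
    ∃ j b u, k j b = true ∧ Rel (ev γ w) i j u ∧ evy y b = evy y a + u := by
  induction w generalizing i a with
  | nil => exact ⟨i, a, 0, hw, hc.one i, (add_zero _).symm⟩
  | cons x t ih =>
    have e : walk act F ok k (x :: t) i a = cnd (ok x i) (walk act F ok k t (act x i) (Nat.xor a (F x i))) false := rfl
    rw [e, cnd_tt] at hw
    obtain ⟨h1, h2⟩ := h x i hi hw.1
    obtain ⟨j, b, u, h3, h4, h5⟩ := ih h1 hw.2
    exact ⟨j, b, _, h3, ev_cons γ x t ▸ hc.mul h2 h4, by rw [h5, evy_xor, add_assoc]⟩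

/-- A closed walk. -/
noncomputable def loop (act F : ℕ → ℕ → ℕ) (ok : ℕ → ℕ → Bool) (k : ℕ → Bool) (w : List ℕ) (i : ℕ) : Bool :=
  walk act F ok (fun j b => cnd (Nat.beq j i) (k b) false) w i 0

theorem loop_sound {E : Type*} [Group E] {Rel : E → ℕ → ℕ → ZMod 2 → Prop} (hc : Coc Rel) {γ : ℕ → E}
    {act F : ℕ → ℕ → ℕ} {ok : ℕ → ℕ → Bool} {k : ℕ → Bool} {n : ℕ}
    (h : ∀ x, ∀ i < n, ok x i = true → act x i < n ∧ Rel (γ x) i (act x i) (evy y (F x i))) {w : List ℕ} {i : ℕ}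
    (hi : i < n) (hw : loop act F ok k w i = true) : ∃ b, k b = true ∧ Rel (ev γ w) i i (evy y b) := by
  obtain ⟨j, b, u, h1, h2, h3⟩ := walk_sound hc h hi hw
  rw [cnd_tt, beq_tt] at h1
  rw [evy_zero, zero_add] at h3
  exact ⟨b, h1.2, h3 ▸ h1.1 ▸ h2⟩

/-- Substitution of words for letters. -/
noncomputable def flat (d : ℕ → List ℕ) (w : List ℕ) : List ℕ :=
  List.rec (motive := fun _ => List ℕ) [] (fun x _ ih => apd (d x) ih) w

theorem ev_flat {E : Type*} [Monoid E] (γ : ℕ → E) (d : ℕ → List ℕ) (w : List ℕ) :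
    ev γ (flat d w) = ev (fun x => ev γ (d x)) w := by
  induction w with
  | nil => rfl
  | cons x t ih => rw [ev_cons, ← ih, ← ev_append, ← apd_eq]; rfl

/-! ### Kernels from order bounds -/

section
variable {Γ : Type u} {P : Type*} [Group Γ] [Group P] (p : Γ →* P) {K : Subgroup Γ}

theorem mem_of_card (hK : K ≤ p.ker) {ι : Type*} (ξ : ι → Γ) (hξ : ∀ i, ξ i ∈ normalizer (K : Set Γ)) (s : Set ι)
    (h : ∀ (Q : Type u) [Group Q] (f : normalizer (K : Set Γ) →* Q), (∀ x, x.1 ∈ K → f x = 1) →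
      Finite (closure ((fun i => f ⟨ξ i, hξ i⟩) '' s)) ∧
        Nat.card (closure ((fun i => f ⟨ξ i, hξ i⟩) '' s)) ≤ Nat.card (closure ((fun i => p (ξ i)) '' s)))
    {g : Γ} (hg : g ∈ closure (ξ '' s) ⊔ K) (h1 : p g = 1) : g ∈ K := by
  set N := normalizer (K : Set Γ)
  let f := QuotientGroup.mk' (K.subgroupOf N)
  obtain ⟨h2, h3⟩ := h _ f fun x hx => (QuotientGroup.eq_one_iff _).2 hx
  set Y := closure ((fun i => f ⟨ξ i, hξ i⟩) '' s)
  let q : N ⧸ K.subgroupOf N →* P := QuotientGroup.lift _ (p.comp N.subtype) fun x hx => hK hx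
  have h4 : Y.map q = closure ((fun i => p (ξ i)) '' s) := by
    rw [MonoidHom.map_closure, Set.image_image]; rfl
  have h5 : Function.Injective (q.subgroupMap Y) := by
    have := q.subgroupMap_surjective Y
    have : Finite (Y.map q) := Finite.of_surjective _ this
    exact ((Nat.bijective_iff_surjective_and_card _).2 ⟨q.subgroupMap_surjective Y,
      le_antisymm (h4 ▸ h3) (Nat.card_le_card_of_surjective _ (q.subgroupMap_surjective Y))⟩).1
  have h6 : closure (ξ '' s) ⊔ K ≤ (Y.comap f).map N.subtype := by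
    refine sup_le ((closure_le _).2 ?_) fun x hx => ⟨⟨x, le_normalizer hx⟩, ?_, rfl⟩
    · rintro _ ⟨i, hi, rfl⟩
      exact ⟨⟨_, hξ i⟩, subset_closure ⟨i, hi, rfl⟩, rfl⟩
    · change f _ ∈ Y
      rw [show f ⟨x, le_normalizer hx⟩ = 1 from (QuotientGroup.eq_one_iff _).2 hx]; exact one_mem _
  obtain ⟨x, hx, rfl⟩ := h6 hg
  have : (⟨f x, hx⟩ : Y) = 1 := h5 (by rw [map_one]; exact Subtype.ext h1)
  exact (QuotientGroup.eq_one_iff (N := K.subgroupOf N) x).1 (congrArg Subtype.val this)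

/-- The words of `T` include the relators and the inverse pairs. -/
def Tgt (iv : ℕ → ℕ) (R : List (List ℕ × ℕ)) (L : List ℕ) (T : List (List ℕ × ℕ)) : Prop :=
  (∀ r ∈ R, ∃ t ∈ T, t.1 = pw r.1 r.2) ∧ 0 ∉ L ∧ (∀ t ∈ T, ∀ x ∈ t.1, x ∈ L) ∧
    ∀ x < 64, iv x < 64 ∧ ((x ∉ L ∧ iv x ∉ L) ∨ ∃ t ∈ T, t.1 = [iv x, x])

theorem mem_of_ord {iv : ℕ → ℕ} {R T : List (List ℕ × ℕ)} {L : List ℕ} {n : ℕ} (ho : Ord.{u} iv R L n)
    (hT : Tgt iv R L T) (hK : K ≤ p.ker) {δ : ℕ → Γ} (hδ : ∀ x, δ x ∈ normalizer (K : Set Γ))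
    (h1 : ∀ x ∉ L, δ x = 1) (h2 : ∀ t ∈ T, ev δ t.1 ∈ K) (hn : n ≤ Nat.card (cl (fun x => p (δ x)) L))
    {g : Γ} (hg : g ∈ cl δ L ⊔ K) (h : p g = 1) : g ∈ K := by
  refine mem_of_card p hK δ hδ _ (fun Q _ f hf => ?_) hg h
  have e : ∀ t ∈ T, ev (fun x => f ⟨δ x, hδ x⟩) t.1 = 1 := fun t ht => by
    rw [← ev_map (fun x => (⟨δ x, hδ x⟩ : normalizer (K : Set Γ)))]
    refine hf _ ?_
    have := ev_map (fun x => (⟨δ x, hδ x⟩ : normalizer (K : Set Γ))) (Subgroup.subtype _) t.1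
    exact (show (Subgroup.subtype _ _ : Γ) ∈ K from this ▸ h2 t ht)
  have e1 : ∀ x ∉ L, f ⟨δ x, hδ x⟩ = 1 := fun x hx => hf _ (by simp only [h1 x hx]; exact one_mem _)
  obtain ⟨a, b⟩ := ho Q (fun x => f ⟨δ x, hδ x⟩) ⟨e1 0 hT.2.1, fun x hx => ⟨(hT.2.2.2 x hx).1, by
    rcases (hT.2.2.2 x hx).2 with h | ⟨t, ht, h⟩
    · simp only [e1 _ h.1, e1 _ h.2, inv_one]
    · have := e t ht
      rw [h, ev_cons, ev_single] at this
      exact eq_inv_of_mul_eq_one_left this⟩⟩ fun r hr => by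
    obtain ⟨t, ht, h⟩ := hT.1 r hr
    rw [← ev_pw, ← h, e t ht]
  exact ⟨a, b.trans hn⟩

theorem mem_of_carm (hK : K ≤ p.ker) {ξ : ℕ → Γ} (hξ : ∀ x, ξ x ∈ normalizer (K : Set Γ)) {k : ℕ}
    (h3 : ∀ i < k, ξ i ^ 3 ∈ K) (h2 : ∀ i < k, ∀ j < k, i ≠ j → (ξ i * ξ j) ^ 2 ∈ K)
    (hn : (k + 2).factorial ≤ 2 * Nat.card (closure ((fun i => p (ξ i)) '' (Finset.range k))))
    {g : Γ} (hg : g ∈ closure (ξ '' (Finset.range k)) ⊔ K) (h : p g = 1) : g ∈ K := by
  refine mem_of_card p hK ξ hξ _ (fun Q _ f hf => ?_) hg h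
  obtain ⟨a, b⟩ := Linear.Carm.card_le (x := fun i => f ⟨ξ i, hξ i⟩) (Finset.range k)
    ⟨fun i hi => by rw [← map_pow]; exact hf _ (h3 i (by simpa using hi)), fun i hi j hj hij => by
      rw [← map_mul, ← map_pow]; exact hf _ (h2 i (by simpa using hi) j (by simpa using hj) hij)⟩
  rw [Finset.card_range] at b
  exact ⟨a, by omega⟩

end

end Cfsg.Lib.MatB.H2
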