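import Cfsg.Agent.Lib.MatB.H2A

/-! # Extensions of `M23` by Golay code modules: the sign character of a stabiliser -/

namespace Cfsg.Lib.MatB.H2

open Cfsg.Lib.Comp Subgroup Equiv MulAction
open Golay (om gc ind imgT pop24 mulN idN getL wordN)
open scoped Pointwise

universe u

/-- Binary words. -/
abbrev W := GolayPt → ZMod 2

/-- Sum of the coordinates in the set with mask `m`. -/
def lam (m : ℕ) (w : W) : ZMod 2 := ∑ p ∈ om m, w p

theorem lam_add (m : ℕ) (v w : W) : lam m (v + w) = lam m v + lam m w := Finset.sum_add_distrib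

theorem lam_eq (m : ℕ) (w : W) : lam m w = ∑ k ∈ Finset.range 24, if m.testBit k then w (gc.pt k) else 0 := by
  rw [lam, ← Finset.sum_filter]
  refine Finset.sum_bij (fun a _ => gc.idx a) (fun a ha => ?_) (fun a _ b _ h => gc.idx_injective h)
    (fun i hi => ?_) fun a _ => by rw [gc.pt_idx]
  · simpa using ⟨gc.idx_lt a, gc.mem_ofMask.1 ha⟩
  · simp only [Finset.mem_filter, Finset.mem_range] at hi
    exact ⟨gc.pt i, by rw [gc.mem_ofMask, gc.idx_pt i hi.1]; exact hi.2, gc.idx_pt i hi.1⟩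

theorem lam_xor (a b : ℕ) (w : W) : lam (Nat.xor a b) w = lam a w + lam b w := by
  rw [lam_eq, lam_eq, lam_eq, ← Finset.sum_add_distrib]
  refine Finset.sum_congr rfl fun k _ => ?_
  rw [show Nat.xor a b = a ^^^ b from rfl, Nat.testBit_xor]
  cases a.testBit k <;> cases b.testBit k <;> simp [aa]

theorem lam_evy {m : ℕ} (h : m < 2 ^ 24) (w : W) : evy (fun k => w (gc.pt k)) m = lam m w := by
  rw [evy_eq h, lam_eq]

theorem lam_smul {σ : Perm GolayPt} {a b : ℕ} (h : σ • om a = om b) (w : W) : lam b (w ∘ ⇑σ⁻¹) = lam a w := by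
  rw [lam, ← h, Finset.smul_finset_def, Finset.sum_image fun x _ y _ e => MulAction.injective σ e]
  exact Finset.sum_congr rfl fun x _ => by simp

/-- Odd intersection. -/
def par (a b : ℕ) : Bool := Nat.beq (Nat.mod (pop24 (Nat.land a b)) 2) 1

theorem lam_ind (a b : ℕ) : lam a (ind (om b)) = if par a b then 1 else 0 := by
  have : lam a (ind (om b)) = ∑ i, ind (om a) i * ind (om b) i := by
    rw [lam, ← Finset.univ_inter (om a), ← Finset.sum_ite_mem, Finset.univ_inter]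
    exact Finset.sum_congr rfl fun p _ => by unfold ind; split_ifs <;> simp
  rw [this, Golay.sum_ind_mul_ind, Golay.card_om_inter, par, ← ZMod.natCast_mod _ 2]
  rcases Nat.mod_two_eq_zero_or_one (pop24 (Nat.land a b)) with h | h <;>
    rw [show Nat.mod (pop24 (Nat.land a b)) 2 = _ from h, h] <;> rfl

theorem lam_sum (a n : ℕ) (c : ℕ → ZMod 2) (f : ℕ → W) :
    lam a (∑ j ∈ Finset.range n, c j • f j) = ∑ j ∈ Finset.range n, c j * lam a (f j) := by
  simp only [lam, Finset.sum_apply, Pi.smul_apply, smul_eq_mul, Finset.mul_sum]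
  exact Finset.sum_comm

theorem ww (w : W) : w + w = 0 := funext fun _ => aa _

theorem smul_mem_S {S : AddSubgroup W} {w : W} (h : w ∈ S) (c : ZMod 2) : c • w ∈ S := by
  rcases Golay.zmod2_cases c with rfl | rfl
  · rw [zero_smul]; exact zero_mem _
  · rwa [one_smul]

/-- Image of an additive map. -/
def thS {E : Type*} [Group E] (S : AddSubgroup W) (θ : W → E) (h : ∀ v ∈ S, ∀ w ∈ S, θ (v + w) = θ v * θ w) :
    Subgroup E where
  carrier := θ '' S
  one_mem' := ⟨0, zero_mem _, by simpa using h 0 (zero_mem _) 0 (zero_mem _)⟩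
  mul_mem' := by rintro _ _ ⟨v, hv, rfl⟩ ⟨w, hw, rfl⟩; exact ⟨_, add_mem hv hw, h v hv w hw⟩
  inv_mem' := by
    rintro _ ⟨v, hv, rfl⟩
    refine ⟨v, hv, eq_inv_of_mul_eq_one_left ?_⟩
    rw [← h v hv v hv, ww]; simpa using h 0 (zero_mem _) 0 (zero_mem _)

theorem mem_norm_thS {E : Type*} [Group E] {S : AddSubgroup W} {θ : W → E} {h} {g : E}
    (hg : ∀ w ∈ S, ∃ v ∈ S, θ v = g * θ w * g⁻¹) : g ∈ normalizer (thS S θ h : Set E) := by
  have : Finite (thS S θ h : Set E) := Set.Finite.image θ (Set.toFinite _)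
  exact mem_normalizer_fintype (by rintro _ ⟨w, hw, rfl⟩; exact hg w hw)

/-- An extension of `M23` by a section `S / (kernel of θ)` of the permutation module. -/
structure Ext {E : Type*} [Group E] (π : E →* Perm GolayPt) (S : AddSubgroup W) (θ : W → E)
    (ub rb sb : ℕ → Bool) : Prop where
  mem : ∀ g, π g ∈ Spor.M23
  surj : ∀ σ ∈ Spor.M23, ∃ g, π g = σ
  ker : ∀ g, π g = 1 → ∃ w ∈ S, θ w = g
  pth : ∀ w ∈ S, π (θ w) = 1
  add : ∀ v ∈ S, ∀ w ∈ S, θ (v + w) = θ v * θ w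
  cs : ∀ g, ∀ w ∈ S, w ∘ ⇑(π g)⁻¹ ∈ S
  cj : ∀ g, ∀ w ∈ S, θ (w ∘ ⇑(π g)⁻¹) = g * θ w * g⁻¹
  hu : ∀ m, ub m = true → ∀ w ∈ S, θ w = 1 → lam m w = 0
  hr : ∀ m, rb m = true → ∀ w ∈ S, lam m w = 0
  hs : ∀ m, sb m = true → ind (om m) ∈ S

variable {E : Type u} [Group E] {π : E →* Perm GolayPt} {S : AddSubgroup W} {θ : W → E} {ub rb sb : ℕ → Bool}

theorem Ext.zero (X : Ext π S θ ub rb sb) : θ 0 = 1 := by simpa using X.add 0 (zero_mem _) 0 (zero_mem _)

theorem Ext.sq (X : Ext π S θ ub rb sb) {w : W} (h : w ∈ S) : θ w * θ w = 1 := by rw [← X.add w h w h, ww, X.zero]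

theorem Ext.eq (X : Ext π S θ ub rb sb) {m : ℕ} (hm : ub m = true) {v w : W} (hv : v ∈ S) (hw : w ∈ S)
    (h : θ v = θ w) : lam m v = lam m w := by
  have := X.hu m hm _ (add_mem hv hw) (by rw [X.add v hv w hw, h, X.sq hw])
  rw [lam_add] at this
  rw [← add_zero (lam m v), ← aa (lam m w), ← add_assoc, this, zero_add]

/-- Membership test for `M23`. -/
noncomputable def inM23 (g : ℕ) : Bool := cnd (Golay.inM24 g) (Nat.beq (Golay.app g 23) 23) false

theorem inH_of_inM23 {g : ℕ} (h : inM23 g = true) : gc.InH Spor.M23 g :=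
  have h1 := Golay.inH_of_inM24 (cnd_tt.1 h).1
  h1.inf (h1.1.mem_stab_pt (i := 23) (by decide) (beq_tt.1 (cnd_tt.1 h).2))

/-- Certificate that the square of a lift of the involution `u` is killed by `A0`. -/
noncomputable def sqB (ub rb : ℕ → Bool) (A0 u : ℕ) (c : ℕ × ℕ × ℕ × ℕ) : Bool :=
  cnd (Nat.beq (mulN 24 u u) (idN 24)) (cnd (inM23 c.1) (cnd (Nat.beq (mulN 24 c.1 u) (mulN 24 u c.1))
    (cnd (Nat.beq (imgT u (imgT c.1 c.2.1)) (imgT c.1 c.2.1)) (cnd (ub (imgT c.1 c.2.1)) (cnd (ub (imgT u c.2.2.1))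
      (cnd (rb c.2.2.2) (Nat.beq A0 (Nat.xor (Nat.xor (imgT c.1 c.2.1) c.2.1)
        (Nat.xor (Nat.xor (imgT u c.2.2.1) c.2.2.1) c.2.2.2))) false) false) false) false) false) false) false

theorem Ext.sq_lift (X : Ext π S θ ub rb sb) {A0 u : ℕ} {c : ℕ × ℕ × ℕ × ℕ} (hu : gc.Valid u)
    (h : sqB ub rb A0 u c = true) {t : E} (ht : π t = gc.dec u) : ∃ w ∈ S, lam A0 w = 0 ∧ θ w = t ^ 2 := by
  simp only [sqB, cnd_tt, beq_tt] at h
  obtain ⟨h1, h2, h3, h4, h5, h6, h7, h8⟩ := h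
  have hc := inH_of_inM23 h2
  obtain ⟨w, hw, e⟩ := X.ker (t ^ 2) (by
    rw [map_pow, ht, pow_two, ← hu.dec_mul hu, show mulN gc.n u u = idN gc.n from h1, Golay.Coding.dec_one])
  obtain ⟨d, hd⟩ := X.surj _ hc.2
  obtain ⟨v, hv, e'⟩ := X.ker (d * t * d⁻¹ * t⁻¹) (by
    rw [map_mul, map_mul, map_mul, map_inv, map_inv, hd, ht, ← hc.1.dec_mul hu,
      show mulN gc.n c.1 u = mulN gc.n u c.1 from h3, hu.dec_mul hc.1]; group)
  have a1 := X.eq h6 (X.cs t w hw) hw (by rw [X.cj t w hw, e]; group)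
  have a2 := X.eq h5 (X.cs d w hw) (add_mem (add_mem hv (X.cs t v hv)) hw) (by
    rw [X.add _ (add_mem hv (X.cs t v hv)) w hw, X.add v hv _ (X.cs t v hv), X.cj t v hv, X.cj d w hw, e, e']
    simp only [pow_two]; group)
  rw [ht, lam_smul (hu.smul_om _)] at a1
  rw [hd, lam_smul (hc.1.smul_om _), lam_add, lam_add, ht,
    lam_smul (a := imgT c.1 c.2.1) ((hu.smul_om _).trans (by rw [h4])), aa, zero_add] at a2
  refine ⟨w, hw, ?_, e⟩
  rw [h8, lam_xor, lam_xor, lam_xor, lam_xor, a1, a2, aa, aa, X.hr _ h7 w hw, add_zero, add_zero]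

/-- The stabiliser of two sets in `M23`. -/
abbrev Hs (O0 A0 : ℕ) : Subgroup (Perm GolayPt) :=
  Spor.M23 ⊓ stabilizer (Perm GolayPt) (om O0) ⊓ stabilizer (Perm GolayPt) (om A0)

/-- Carmichael generators of the stabiliser. -/
structure CarmOK (ub rb : ℕ → Bool) (O0 A0 : ℕ) (cs : List ℕ) (ce : ℕ → ℕ → ℕ × ℕ × ℕ × ℕ) : Prop where
  inH : ∀ g ∈ cs, gc.InH (Hs O0 A0) g
  gen : gc.gen cs = Hs O0 A0
  card : (cs.length + 2).factorial ≤ 2 * Nat.card (Hs O0 A0)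
  ub0 : ub A0 = true
  cube : ∀ i < cs.length, Nat.beq (wordN 24 cs [i, i, i]) (wordN 24 cs []) = true
  sq : ∀ i < cs.length, ∀ j < cs.length, i ≠ j → sqB ub rb A0 (wordN 24 cs [i, j]) (ce i j) = true

theorem getL_image (cs : List ℕ) (d : ℕ) (f : ℕ → Perm GolayPt) :
    (fun i => f (getL cs d i)) '' (Finset.range cs.length) = {σ | ∃ g ∈ cs, f g = σ} := by
  have : ∀ i (h : i < cs.length), getL cs d i = cs[i] := by
    induction cs with
    | nil => simp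
    | cons a l ih => rintro (_ | i) h; exacts [rfl, ih i (by simpa using h)]
  ext σ
  simp only [Finset.coe_range, Set.mem_image, Set.mem_Iio, Set.mem_setOf_eq, List.mem_iff_getElem]
  exact ⟨fun ⟨i, h, e⟩ => ⟨_, ⟨i, h, rfl⟩, this i h ▸ e⟩, fun ⟨_, ⟨i, h, rfl⟩, e⟩ => ⟨i, h, (this i h).symm ▸ e⟩⟩

theorem Ext.exists_chi (X : Ext π S θ ub rb sb) {O0 A0 : ℕ} {cs : List ℕ} {ce} (C : CarmOK ub rb O0 A0 cs ce) :
    ∃ χ : E → ZMod 2, (∀ x, π x ∈ Hs O0 A0 → ∀ y, π y ∈ Hs O0 A0 → χ (x * y) = χ x + χ y) ∧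
      ∀ w ∈ S, χ (θ w) = lam A0 w := by
  classical
  let S0 : AddSubgroup W := S ⊓ (AddMonoidHom.mk' (lam A0) (lam_add A0)).ker
  let K := thS S0 θ fun v hv w hw => X.add v hv.1 w hw.1
  have hK : K ≤ π.ker := by rintro _ ⟨w, hw, rfl⟩; exact X.pth w hw.1
  have hN : ∀ g, π g ∈ Hs O0 A0 → g ∈ normalizer (K : Set E) := fun g hg =>
    mem_norm_thS fun w hw => ⟨_, ⟨X.cs g w hw.1, (lam_smul hg.2 w).trans hw.2⟩, X.cj g w hw.1⟩
  have : ∀ i, ∃ x, π x = (gl C.inH i).1 ∧ (i < cs.length → x ^ 3 = 1) := fun i => by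
    obtain ⟨x, hx⟩ := X.surj _ (gl C.inH i).2.1.1
    by_cases hi : i < cs.length
    · have h3 : (gl C.inH i).1 ^ 3 = 1 := by
        simpa [ev, pow_succ, mul_assoc] using congrArg Subtype.val (ev_gl_eq C.inH (C.cube i hi))
      obtain ⟨w, hw, e⟩ := X.ker (x ^ 3) (by rw [map_pow, hx, h3])
      refine ⟨x ^ 4, by rw [map_pow, hx, pow_succ, h3, one_mul], fun _ => ?_⟩
      rw [← pow_mul, show 4 * 3 = 3 * 2 * 2 from rfl, pow_mul, pow_mul, ← e, pow_two (θ w), X.sq hw, one_pow]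
    · exact ⟨x, hx, fun h => absurd h hi⟩
  choose ξ h1 h2 using this
  have hH : ∀ i, π (ξ i) ∈ Hs O0 A0 := fun i => h1 i ▸ (gl C.inH i).2
  have hg : closure ((fun i => π (ξ i)) '' (Finset.range cs.length)) = Hs O0 A0 := by
    simp only [h1]; exact (congrArg Subgroup.closure (getL_image cs _ gc.dec)).trans C.gen
  set T := closure (ξ '' (Finset.range cs.length)) ⊔ K
  have hT : ∀ g ∈ T, π g = 1 → g ∈ K := fun g => mem_of_carm π hK (fun i => hN _ (hH i))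
    (fun i hi => (h2 i hi).symm ▸ one_mem _) (fun i hi j hj hij => by
      obtain ⟨w, hw, a, b⟩ := X.sq_lift (Golay.Coding.inH_wordN C.inH [i, j]).1 (C.sq i hi j hj hij)
        (t := ξ i * ξ j) (by
          rw [map_mul, h1, h1]; simpa [ev] using coe_ev_gl C.inH [i, j])
      exact ⟨w, ⟨hw, a⟩, b⟩) (hg ▸ C.card)
  have hTH : ∀ g ∈ T, π g ∈ Hs O0 A0 := fun g h => (show T ≤ (Hs O0 A0).comap π from
    sup_le ((closure_le _).2 (by rintro _ ⟨i, -, rfl⟩; exact hH i)) fun x hx => by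
      rw [mem_comap, show π x = 1 from hK hx]; exact one_mem _) h
  have tot : ∀ x, π x ∈ Hs O0 A0 → ∃ w ∈ S, θ w * x ∈ T := fun x hx => by
    rw [← hg, ← Set.image_image π ξ, ← MonoidHom.map_closure] at hx
    obtain ⟨t, ht, e⟩ := hx
    obtain ⟨w, hw, e'⟩ := X.ker (t * x⁻¹) (by rw [map_mul, map_inv, e, mul_inv_cancel])
    exact ⟨w, hw, by rw [e', inv_mul_cancel_right]; exact mem_sup_left ht⟩
  have un : ∀ x, ∀ v ∈ S, ∀ w ∈ S, θ v * x ∈ T → θ w * x ∈ T → lam A0 v = lam A0 w := fun x v hv w hw a b => by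
    have := T.mul_mem a (T.inv_mem b)
    rw [mul_inv_rev, mul_assoc, mul_inv_cancel_left, inv_eq_of_mul_eq_one_right (X.sq hw), ← X.add v hv w hw] at this
    obtain ⟨z, hz, e⟩ := hT _ this (X.pth _ (add_mem hv hw))
    have := X.eq C.ub0 hz.1 (add_mem hv hw) e
    rw [show lam A0 z = 0 from hz.2, lam_add] at this
    rw [← add_zero (lam A0 v), ← aa (lam A0 w), ← add_assoc, ← this, zero_add]
  let χ : E → ZMod 2 := fun x => if h : ∃ w ∈ S, θ w * x ∈ T then lam A0 h.choose else 0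
  have hχ : ∀ x, ∀ w ∈ S, θ w * x ∈ T → χ x = lam A0 w := fun x w hw h => by
    have h' : ∃ w ∈ S, θ w * x ∈ T := ⟨w, hw, h⟩
    exact (dif_pos h').trans (un x _ h'.choose_spec.1 w hw h'.choose_spec.2 h)
  refine ⟨χ, fun x hx y hy => ?_, fun w hw => hχ _ w hw (by rw [X.sq hw]; exact one_mem _)⟩
  obtain ⟨v, hv, a⟩ := tot x hx
  obtain ⟨w, hw, b⟩ := tot y hy
  rw [hχ x v hv a, hχ y w hw b, hχ (x * y) _ (add_mem hv (X.cs x w hw)), lam_add, lam_smul hx.2]
  rw [X.add v hv _ (X.cs x w hw), X.cj x w hw]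
  simpa [mul_assoc] using T.mul_mem a b

end Cfsg.Lib.MatB.H2
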