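import Cfsg.Agent.Lib.MatB.H2B

/-! # Extensions of `M23` by Golay code modules: the signed action on an orbit and its linear algebra -/

namespace Cfsg.Lib.MatB.H2

open Cfsg.Lib.Comp Subgroup Equiv MulAction
open Golay (om gc ind imgT pop24 mulN idN getL wordN)
open scoped Pointwise

universe u

variable {E : Type u} [Group E] {π : E →* Perm GolayPt} {S : AddSubgroup W} {θ : W → E} {ub rb sb : ℕ → Bool}

/-- Coset representatives along a spanning tree. -/
noncomputable def rho (γ : ℕ → E) (act : ℕ → ℕ → ℕ) (lt : ℕ → ℕ) (i : ℕ) : E :=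
  if act (lt i) i < i then γ (lt i) * rho γ act lt (act (lt i) i) else 1
termination_by i

theorem rho_eq (γ : ℕ → E) (act : ℕ → ℕ → ℕ) (lt : ℕ → ℕ) (i : ℕ) :
    rho γ act lt i = if act (lt i) i < i then γ (lt i) * rho γ act lt (act (lt i) i) else 1 := by rw [rho]

/-- The table `act` describes the action of the inverse letters on the pairs `(pO i, pA i)`. -/
noncomputable def tabB (gs : List ℕ) (n : ℕ) (act : ℕ → ℕ → ℕ) (pO pA : ℕ → ℕ) (x i : ℕ) : Bool :=
  force (act x i) fun j => cnd (Nat.ble (Nat.succ j) n) (cnd (Nat.beq (imgT (getL gs (idN 24) x) (pO j)) (pO i))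
    (Nat.beq (imgT (getL gs (idN 24) x) (pA j)) (pA i)) false) false

/-- Tail coordinates and the spanning tree. -/
noncomputable def ptB (rb : ℕ → Bool) (m st : ℕ) (act : ℕ → ℕ → ℕ) (pA tA lt : ℕ → ℕ) (i : ℕ) : Bool :=
  cnd (Nat.ble (Nat.succ (tA i)) (Nat.shiftLeft 1 st)) (cnd (rb (Nat.xor (tA i) (pA i))) (cnd (Nat.beq i 0) true
    (cnd (Nat.ble (Nat.succ (lt i)) m) (Nat.ble (Nat.succ (act (lt i) i)) i) false)) false) false

/-- The form of the tail of relator `r` at the point `i`. -/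
def tf (tA : ℕ → ℕ) (st base r i : ℕ) : ℕ := Nat.shiftLeft (tA i) (Nat.add base (Nat.mul st r))

/-- The letter is one of `0, …, m-1`. -/
def okm (m x _i : ℕ) : Bool := Nat.ble (Nat.succ x) m

/-- The form of the edge `(x, i)` is correct. -/
noncomputable def edgeB (m n st base : ℕ) (act ft rk ct : ℕ → ℕ → ℕ) (tA lt ax ai : ℕ → ℕ) (RW : List (List ℕ))
    (x i : ℕ) : Bool :=
  force (ct x i) fun c => cnd (Nat.beq c 0)
    (cnd (Nat.ble 1 i) (cnd (Nat.beq (lt i) x) (Nat.beq (ft x i) 0) false) false)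
    (cnd (Nat.ble c base)
      (cnd (Nat.beq (ax (Nat.pred c)) x) (cnd (Nat.beq (ai (Nat.pred c)) i)
        (Nat.beq (ft x i) (Nat.shiftLeft 1 (Nat.pred c))) false) false)
      (force (Nat.mod c 64) fun r => force (Nat.sub (Nat.div c 64) base) fun i0 => force (rk x i) fun q =>
        cnd (Nat.ble (Nat.succ i0) n) (loop act
          (fun y j => cnd (cnd (Nat.beq j i) (Nat.beq y x) false) 1 (Nat.shiftLeft (ft y j) 1))
          (fun y j => cnd (okm m y j) (cnd (Nat.ble (Nat.succ (rk y j)) q) true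
            (cnd (Nat.beq j i) (Nat.beq y x) false)) false)
          (fun b => Nat.beq b (Nat.xor (Nat.shiftLeft (Nat.xor (tf tA st base r i0) (ft x i)) 1) 1))
          (nth [] RW r) i0) false))

/-- Row `j` of `B` is a consequence of a loop equation. -/
noncomputable def rowB (m n st base : ℕ) (act ft : ℕ → ℕ → ℕ) (tA : ℕ → ℕ) (RW : List (List ℕ)) (B : List ℕ)
    (Q : ℕ → ℕ) (j : ℕ) : Bool :=
  force (Nat.mod (Q j) 64) fun r => force (Nat.div (Q j) 64) fun i => cnd (Nat.ble (Nat.succ i) n)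
    (loop act ft (okm m) (fun b => Nat.beq (redN B j (Nat.xor b (tf tA st base r i))) (nth 0 B j)) (nth [] RW r) i) false

theorem tabB_iff {gs : List ℕ} (hgs : ∀ g ∈ gs, gc.InH Spor.M23 g) {n : ℕ} {act : ℕ → ℕ → ℕ} {pO pA : ℕ → ℕ} {x i : ℕ}
    (h : tabB gs n act pO pA x i = true) : act x i < n ∧ (gl hgs x).1 • om (pO (act x i)) = om (pO i) ∧
      (gl hgs x).1 • om (pA (act x i)) = om (pA i) := by
  simp only [tabB, force_eq, cnd_tt, beq_tt, ble_tt] at h
  exact ⟨h.1, ((inH_getL hgs x).1.smul_om _).trans (congrArg om h.2.1),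
    ((inH_getL hgs x).1.smul_om _).trans (congrArg om h.2.2)⟩

theorem Ext.exists_val (X : Ext π S θ ub rb sb) {cs : List ℕ} {ce} {gs : List ℕ} (hgs : ∀ g ∈ gs, gc.InH Spor.M23 g)
    {m n st base k : ℕ} {act ft rk ct : ℕ → ℕ → ℕ} {pO pA tA lt ax ai Q : ℕ → ℕ} {RW : List (List ℕ)} {B : List ℕ}
    (C : CarmOK ub rb (pO 0) (pA 0) cs ce) (hst : 0 < st ∧ st ≤ 24)
    (hRW : ∀ w ∈ RW, Nat.beq (wordN 24 gs w) (wordN 24 gs []) = true)
    (h1 : ∀ x < m, ∀ i < n, tabB gs n act pO pA x i = true) (h2 : ∀ i < n, ptB rb m st act pA tA lt i = true)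
    (h3 : ∀ x < m, ∀ i < n, edgeB m n st base act ft rk ct tA lt ax ai RW x i = true)
    (h4 : ∀ j < k, rowB m n st base act ft tA RW B Q j = true) :
    ∃ (γ : ℕ → E) (Rel : E → ℕ → ℕ → ZMod 2 → Prop) (z : ℕ → ZMod 2), Coc Rel ∧ (∀ x, π (γ x) = (gl hgs x).1) ∧
      (∀ w ∈ S, ∀ i < n, Rel (θ w) i i (lam (pA i) w)) ∧
      (∀ x < m, ∀ i < n, act x i < n ∧ Rel (γ x) i (act x i) (evy z (ft x i))) ∧ ∀ j < k, evy z (nth 0 B j) = 0 := by
  obtain ⟨χ, c1, c2⟩ := X.exists_chi C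
  choose γ hγ using fun x => X.surj _ (gl hgs x).2
  set ρ := rho γ act lt
  have c0 : χ 1 = 0 := by rw [← X.zero, c2 0 (zero_mem _)]; simp [lam]
  let Rel : E → ℕ → ℕ → ZMod 2 → Prop := fun g i j u =>
    π ((ρ i)⁻¹ * g * ρ j) ∈ Hs (pO 0) (pA 0) ∧ χ ((ρ i)⁻¹ * g * ρ j) = u
  have hc : Coc Rel := ⟨fun i => by simpa [Rel] using c0, fun {g h i j k u v} a b => by
    have : (ρ i)⁻¹ * (g * h) * ρ k = ((ρ i)⁻¹ * g * ρ j) * ((ρ j)⁻¹ * h * ρ k) := by group
    exact ⟨by rw [this, map_mul]; exact mul_mem a.1 b.1, by rw [this, c1 _ a.1 _ b.1, a.2, b.2]⟩,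
    fun a b => a.2.symm.trans b.2⟩
  simp only [ptB, cnd_tt, ble_tt, shl_eq, Nat.one_shiftLeft] at h2
  have tr : ∀ i < n, 0 < i → lt i < m ∧ ρ i = γ (lt i) * ρ (act (lt i) i) ∧ act (lt i) i < i := fun i hi h0 => by
    have := (h2 i hi).2.2
    rw [show Nat.beq i 0 = false from by cases i; exacts [absurd h0 (lt_irrefl 0), rfl], cnd_false, cnd_tt, ble_tt,
      ble_tt] at this
    exact ⟨this.1, (rho_eq _ _ _ _).trans (if_pos this.2), this.2⟩
  have hρ : ∀ i < n, π (ρ i) • om (pO 0) = om (pO i) ∧ π (ρ i) • om (pA 0) = om (pA i) := fun i => by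
    induction i using Nat.strong_induction_on with
    | _ i ih =>
      intro hi
      rcases Nat.eq_zero_or_pos i with rfl | h0
      · rw [show ρ 0 = 1 from (rho_eq _ _ _ _).trans (if_neg (Nat.not_lt_zero _)), map_one]; simp
      · obtain ⟨a, b, c⟩ := tr i hi h0
        obtain ⟨d, e, f⟩ := tabB_iff hgs (h1 _ a i hi)
        rw [b, map_mul, mul_smul, mul_smul, (ih _ c d).1, (ih _ c d).2, hγ]
        exact ⟨e, f⟩
  have hN : ∀ w ∈ S, ∀ i < n, Rel (θ w) i i (lam (pA i) w) := fun w hw i hi => by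
    have := X.cj (ρ i)⁻¹ w hw
    rw [inv_inv (ρ i)] at this
    refine ⟨by rw [← this, X.pth _ (X.cs _ w hw)]; exact one_mem _, ?_⟩
    rw [← this, c2 _ (X.cs _ w hw), lam_smul (a := pA i) (by rw [map_inv, inv_smul_eq_iff, (hρ i hi).2])]
  let s : ℕ → ℕ → ZMod 2 := fun x i => χ ((ρ i)⁻¹ * γ x * ρ (act x i))
  have hs : ∀ x < m, ∀ i < n, act x i < n ∧ Rel (γ x) i (act x i) (s x i) := fun x hx i hi => by
    obtain ⟨d, e, f⟩ := tabB_iff hgs (h1 x hx i hi)
    refine ⟨d, ⟨⟨X.mem _, mem_stabilizer_iff.2 ?_⟩, mem_stabilizer_iff.2 ?_⟩, rfl⟩ <;>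
      rw [map_mul, map_mul, mul_smul, mul_smul, map_inv, inv_smul_eq_iff, hγ]
    · rw [(hρ _ d).1, (hρ _ hi).1, e]
    · rw [(hρ _ d).2, (hρ _ hi).2, f]
  have : ∀ r, ∃ w ∈ S, θ w = ev γ (nth [] RW r) := fun r => X.ker _ (by
    rw [ev_map, funext hγ]
    rcases nth_mem [] RW r with h | h
    · rw [h, ev_nil]
    · exact (ev_map _ (Subgroup.subtype _) _).symm.trans (congrArg Subtype.val (ev_gl_eq hgs (hRW _ h))))
  choose Wr w1 w2 using this
  let z : ℕ → ZMod 2 := fun k => if k < base then s (ax k) (ai k) else Wr ((k - base) / st) (gc.pt ((k - base) % st))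
  have ht : ∀ r, ∀ i < n, evy z (tf tA st base r i) = lam (pA i) (Wr r) := fun r i hi => by
    have a := X.hr _ (h2 i hi).2.1 _ (w1 r)
    rw [lam_xor] at a
    rw [tf, evy_shl, evy_congr (y' := fun k => Wr r (gc.pt k)) (h2 i hi).1, lam_evy (lt_of_lt_of_le (h2 i hi).1
      (Nat.pow_le_pow_right two_pos hst.2)), ← add_zero (lam (tA i) _), ← aa (lam (pA i) (Wr r)), ← add_assoc, a, zero_add]
    intro k hk
    have e : Nat.add base (Nat.mul st r) + k - base = st * r + k := by simp only [Nat.add_eq, Nat.mul_eq]; omega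
    simp only [z]
    rw [if_neg (by simp only [Nat.add_eq]; omega), e, Nat.mul_add_div hst.1, Nat.div_eq_of_lt hk, Nat.mul_add_mod,
      Nat.mod_eq_of_lt hk, add_zero]
  have hl : ∀ {y r i b}, i < n → Rel (ev γ (nth [] RW r)) i i (evy y b) → evy y b = evy z (tf tA st base r i) :=
    fun hi h => (hc.uniq h (w2 _ ▸ hN _ (w1 _) _ hi)).trans (ht _ _ hi).symm
  have he : ∀ q, ∀ x < m, ∀ i < n, rk x i < q → s x i = evy z (ft x i) := fun q => by
    induction q with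
    | zero => exact fun _ _ _ _ h => absurd h (Nat.not_lt_zero _)
    | succ q ih =>
      intro x hx i hi hq
      have h := h3 x hx i hi
      simp only [edgeB, force_eq] at h
      rw [cnd_eq, cnd_eq (Nat.ble (ct x i) base)] at h
      split_ifs at h with a b
      · simp only [cnd_tt, beq_tt, ble_tt] at h
        obtain ⟨-, e, -⟩ := tr i hi h.1
        rw [h.2.1] at e
        simp only [s]
        rw [h.2.2, mul_assoc, ← e, inv_mul_cancel, c0, evy_zero]
      · simp only [cnd_tt, beq_tt, ble_tt] at h a b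
        rw [h.2.2, evy_shl, evy_one]
        simp only [z]
        rw [add_zero, if_pos (by simp only [Nat.pred_eq_sub_one]; omega), h.1, h.2.1]
      · rw [cnd_tt, ble_tt] at h
        have up : ∀ f, evy (fun k => if k = 0 then s x i else z (k - 1)) (Nat.shiftLeft f 1) = evy z f := fun f => by
          rw [evy_shl]; congr 1; funext k; simp
        obtain ⟨c, h5, h6⟩ := loop_sound (y := fun k => if k = 0 then s x i else z (k - 1)) hc (fun y j hj ho => by
          rw [cnd_tt] at ho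
          obtain ⟨d, e⟩ := hs y (ble_tt.1 ho.1) j hj
          refine ⟨d, ?_⟩
          cases h0 : cnd (Nat.beq j i) (Nat.beq y x) false
          · rw [h0, cnd_eq] at ho
            rw [cnd_false, up, ← ih y (ble_tt.1 ho.1) j hj]; · exact e
            have := ho.2
            split_ifs at this with h7
            rw [ble_tt] at h7; omega
          · rw [cnd_tt, beq_tt, beq_tt] at h0
            rw [cnd_true, evy_one, if_pos rfl, ← h0.1, ← h0.2]; exact e) h.1 h.2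
        have := hl h.1 h6
        rw [beq_tt.1 h5, evy_xor, up, evy_one, if_pos rfl, evy_xor, add_assoc, add_eq_left] at this
        rw [← add_zero (s x i), ← aa (evy z (ft x i)), ← add_assoc, add_comm (s x i), this, zero_add]
  have he' : ∀ x < m, ∀ i < n, act x i < n ∧ Rel (γ x) i (act x i) (evy z (ft x i)) := fun x hx i hi =>
    he _ x hx i hi (Nat.lt_succ_self _) ▸ hs x hx i hi
  refine ⟨γ, Rel, z, hc, hγ, hN, he', rows_zero fun j hj => ?_⟩
  have h := h4 j hj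
  simp only [rowB, force_eq, cnd_tt, ble_tt] at h
  obtain ⟨c, h5, h6⟩ := loop_sound (y := z) hc (fun y j hj ho => he' y (ble_tt.1 ho) j hj) h.1 h.2
  exact ⟨_, by rw [evy_xor, hl h.1 h6, aa], beq_tt.1 h5⟩

/-- The form of the correction of letter `x` at the point `i`. -/
noncomputable def nf (pA bs : ℕ → ℕ) (nb : ℕ) (vf : ℕ → ℕ → ℕ) (x i : ℕ) : ℕ :=
  xorN nb fun j => cnd (par (pA i) (bs j)) (vf x j) 0

/-- The corrected lifts have the tail `ε • t.2` on the word `t.1`, at the point `i`. -/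
noncomputable def tgtB (m k : ℕ) (act ft : ℕ → ℕ → ℕ) (pA bs : ℕ → ℕ) (nb : ℕ) (vf : ℕ → ℕ → ℕ) (B : List ℕ)
    (eps : ℕ) (dw : ℕ → List ℕ) (t : List ℕ × ℕ) (i : ℕ) : Bool :=
  loop act (fun x j => Nat.xor (ft x j) (nf pA bs nb vf x j)) (okm m)
    (fun b => Nat.beq (redN B k (Nat.xor b (cnd (par (pA i) t.2) eps 0))) 0) (flat dw t.1) i

theorem Ext.core (X : Ext π S θ ub rb sb) {gs : List ℕ} (hgs : ∀ g ∈ gs, gc.InH Spor.M23 g)
    {m n k nb eps : ℕ} {act ft vf : ℕ → ℕ → ℕ} {pA bs : ℕ → ℕ} {B I : List ℕ} {dw : ℕ → List ℕ} {T : List (List ℕ × ℕ)}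
    (h : ∃ (γ : ℕ → E) (Rel : E → ℕ → ℕ → ZMod 2 → Prop) (z : ℕ → ZMod 2), Coc Rel ∧ (∀ x, π (γ x) = (gl hgs x).1) ∧
      (∀ w ∈ S, ∀ i < n, Rel (θ w) i i (lam (pA i) w)) ∧
      (∀ x < m, ∀ i < n, act x i < n ∧ Rel (γ x) i (act x i) (evy z (ft x i))) ∧ ∀ j < k, evy z (nth 0 B j) = 0)
    (hb : ∀ j < nb, sb (bs j) = true) (hI : ∀ i ∈ I, i < n)
    (hT : ∀ t ∈ T, Nat.beq (wordN 24 gs (flat dw t.1)) (wordN 24 gs []) = true)
    (h5 : ∀ t ∈ T, ∀ i ∈ I, tgtB m k act ft pA bs nb vf B eps dw t i = true) :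
    ∃ (δ : ℕ → E) (ε : ZMod 2), (∀ x, π (δ x) = (ev (gl hgs) (dw x)).1) ∧ (∀ x, dw x = [] → δ x = 1) ∧
      ∀ t ∈ T, ∃ w ∈ S, θ w = ev δ t.1 ∧ ∀ i ∈ I, lam (pA i) w = ε * lam (pA i) (ind (om t.2)) := by
  obtain ⟨γ, Rel, z, hc, hγ, hN, he, hB⟩ := h
  let V : ℕ → W := fun x => ∑ j ∈ Finset.range nb, evy z (vf x j) • ind (om (bs j))
  have hV : ∀ x, V x ∈ S := fun x => sum_mem fun j hj => smul_mem_S (X.hs _ (hb j (Finset.mem_range.1 hj))) _
  have hπ : ∀ x, π (ev (fun x => θ (V x) * γ x) (dw x)) = (ev (gl hgs) (dw x)).1 := fun x => by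
    rw [ev_map]
    refine Eq.trans ?_ (ev_map _ (Subgroup.subtype _) _).symm
    simp only [map_mul, X.pth _ (hV _), one_mul, hγ]; rfl
  refine ⟨fun x => ev (fun x => θ (V x) * γ x) (dw x), evy z eps, hπ, fun x hx => congrArg (ev _) hx, fun t ht => ?_⟩
  obtain ⟨w, hw, e⟩ := X.ker (ev (fun x => ev (fun x => θ (V x) * γ x) (dw x)) t.1) (by
    rw [ev_map, funext hπ]
    refine (ev_map (fun x => ev (gl hgs) (dw x)) (Subgroup.subtype _) _).symm.trans ?_
    rw [← ev_flat, ev_gl_eq hgs (hT t ht)]; rfl)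
  refine ⟨w, hw, e, fun i hi => ?_⟩
  obtain ⟨c, h6, h7⟩ := loop_sound (y := z) (γ := fun x => θ (V x) * γ x) hc (fun y j hj ho => by
    obtain ⟨a, b⟩ := he y (ble_tt.1 ho) j hj
    refine ⟨a, ?_⟩
    have := hc.mul (hN _ (hV y) j hj) b
    rwa [evy_xor, add_comm, nf, evy_xorN, Finset.sum_congr rfl fun j _ => by
      rw [evy_cnd, ← lam_ind, mul_comm], ← lam_sum]) (hI i hi) (h5 t ht i hi)
  rw [ev_flat, ← e] at h7
  have := congrArg (evy z) (beq_tt.1 h6)
  rw [evy_redN hB, evy_xor, evy_cnd, ← lam_ind, evy_zero, hc.uniq h7 (hN w hw i (hI i hi)), mul_comm] at this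
  rw [← add_zero (lam _ w), ← aa (evy z eps * _), ← add_assoc, this, zero_add]

end Cfsg.Lib.MatB.H2
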