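import Cfsg.Agent.Lib.MatB.H2C

/-! # Extensions of `M23` by Golay code modules: splitting, uniqueness, the two modules -/

namespace Cfsg.Lib.MatB.H2

open Cfsg.Lib.Comp Subgroup Equiv MulAction
open Golay (om gc ind imgT pop24 mulN idN getL wordN isCw cwN)
open scoped Pointwise

universe u v

/-- Lookup in a table split into chunks of 64 entries. -/
noncomputable def lk (T : List ℕ) (w i : ℕ) : ℕ :=
  force (Nat.shiftRight i 6) fun q => look (nth 0 T q) w (Nat.land i 63)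

theorem allN2 {m n : ℕ} {f : ℕ → ℕ → Bool} (h : allN m (fun x => allN n (f x)) = true) : ∀ x < m, ∀ i < n, f x i = true :=
  fun x hx => allN_iff.1 (allN_iff.1 h x hx)

variable {E : Type u} [Group E] {π : E →* Perm GolayPt} {S : AddSubgroup W} {θ : W → E} {ub rb sb : ℕ → Bool}
  {iv : ℕ → ℕ} {R T : List (List ℕ × ℕ)} {L : List ℕ}

theorem Ext.split (X : Ext π S θ ub rb sb) (ho : Ord.{u} iv R L 10200960) (hT : Tgt iv R L T) {δ : ℕ → E}
    (hδ : cl (fun x => π (δ x)) L = Spor.M23) (h1 : ∀ x ∉ L, δ x = 1) (h2 : ∀ t ∈ T, ev δ t.1 = 1) :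
    ∃ H : Subgroup E, H ⊓ π.ker = ⊥ ∧ H ⊔ π.ker = ⊤ := by
  refine ⟨cl δ L, eq_bot_iff.2 fun g hg => mem_of_ord π ho hT bot_le (fun x => le_normalizer_of_normal (mem_top _)) h1 h2
    (by rw [hδ, Golay.card_M23]) (mem_sup_left hg.1) hg.2, eq_top_iff.2 fun g _ => ?_⟩
  have := X.mem g
  rw [← hδ, ← cl_map] at this
  obtain ⟨h, hh, e⟩ := this
  rw [← mul_inv_cancel_left h g]
  exact mul_mem_sup hh (by rw [MonoidHom.mem_ker, map_mul, map_inv, e, inv_mul_cancel])

theorem Ext.bij (X : Ext π S θ ub rb sb) {Γ : Type v} [Group Γ] (ho : Ord.{v} iv R L 10200960) (hT : Tgt iv R L T)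
    (f : Γ →* E) {η : W → Γ} {ha} (hf : ∀ w ∈ S, f (η w) = θ w) (hk : ∀ w ∈ S, θ w = 1 → η w = 1) {δ : ℕ → Γ}
    (hn : ∀ x, δ x ∈ normalizer (thS S η ha : Set Γ)) (hδ : cl (fun x => π (f (δ x))) L = Spor.M23)
    (h1 : ∀ x ∉ L, δ x = 1) (h2 : ∀ t ∈ T, ev δ t.1 ∈ thS S η ha) : Nonempty (↥(cl δ L ⊔ thS S η ha) ≃* E) := by
  refine ⟨MulEquiv.ofBijective (f.comp (Subgroup.subtype _)) ⟨(injective_iff_map_eq_one _).2 fun g hg => ?_, fun g => ?_⟩⟩
  · have hg' : f g = 1 := hg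
    obtain ⟨w, hw, e⟩ := mem_of_ord (π.comp f) ho hT (by
      rintro _ ⟨w, hw, rfl⟩; rw [MonoidHom.mem_ker, MonoidHom.comp_apply, hf w hw, X.pth w hw]) hn h1 h2
      (by simp only [MonoidHom.comp_apply]; rw [hδ, Golay.card_M23]) g.2 (by rw [MonoidHom.comp_apply, hg', map_one])
    exact Subtype.ext (e ▸ hk w hw (by rw [← hf w hw, e, hg']))
  · have := X.mem g
    rw [← hδ, ← cl_map (f := π), ← cl_map] at this
    obtain ⟨_, ⟨h, hh, rfl⟩, e⟩ := this
    obtain ⟨w, hw, e'⟩ := X.ker (g * (f h)⁻¹) (by rw [map_mul, map_inv, e, mul_inv_cancel])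
    exact ⟨⟨η w * h, mul_mem (mem_sup_right ⟨w, hw, rfl⟩) (mem_sup_left hh)⟩, by
      change f (η w * h) = g
      rw [map_mul, hf w hw, e', inv_mul_cancel_right]⟩

theorem Ext.iso (X : Ext π S θ ub rb sb) {E' : Type v} [Group E'] {π' : E' →* Perm GolayPt} {θ' : W → E'}
    (X' : Ext π' S θ' ub rb sb) (ho : Ord.{max u v} iv R L 10200960) (hT : Tgt iv R L T)
    (hk : ∀ w ∈ S, θ w = 1 ↔ θ' w = 1) {δ : ℕ → E} {δ' : ℕ → E'} (hπ : ∀ x, π (δ x) = π' (δ' x))
    (hδ : cl (fun x => π (δ x)) L = Spor.M23) (h1 : ∀ x ∉ L, δ x = 1 ∧ δ' x = 1)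
    (h2 : ∀ t ∈ T, ∃ w ∈ S, θ w = ev δ t.1 ∧ θ' w = ev δ' t.1) : Nonempty (E ≃* E') := by
  have ha : ∀ v ∈ S, ∀ w ∈ S, (θ (v + w), θ' (v + w)) = (θ v, θ' v) * (θ w, θ' w) := fun v hv w hw =>
    Prod.ext (X.add v hv w hw) (X'.add v hv w hw)
  have hn : ∀ x, (δ x, δ' x) ∈ normalizer (thS S (fun w => (θ w, θ' w)) ha : Set (E × E')) := fun x =>
    mem_norm_thS fun w hw => ⟨_, X.cs (δ x) w hw, Prod.ext (X.cj _ w hw) (hπ x ▸ X'.cj _ w hw)⟩
  have h3 : ∀ t ∈ T, ev (fun x => (δ x, δ' x)) t.1 ∈ thS S (fun w => (θ w, θ' w)) ha := fun t ht => by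
    obtain ⟨w, hw, a, b⟩ := h2 t ht
    exact ⟨w, hw, by rw [ev_prod, ← a, ← b]⟩
  obtain ⟨e⟩ := X.bij ho hT (MonoidHom.fst E E') (fun _ _ => rfl) (fun w hw h => Prod.ext h ((hk w hw).1 h)) hn hδ
    (fun x hx => Prod.ext (h1 x hx).1 (h1 x hx).2) h3
  obtain ⟨e'⟩ := X'.bij ho hT (MonoidHom.snd E E') (fun _ _ => rfl) (fun w hw h => Prod.ext ((hk w hw).2 h) h) hn
    ((congrArg (cl · L) (funext hπ)).symm.trans hδ) (fun x hx => Prod.ext (h1 x hx).1 (h1 x hx).2) h3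
  exact ⟨e.symm.trans e'⟩

/-! ### The two modules -/

theorem exists_ind (w : W) : ∃ m < 2 ^ 24, w = ind (om m) := by
  obtain ⟨m, h, e⟩ := Golay.exists_om (support₂ w)
  exact ⟨m, h, by rw [e, Golay.ind_support₂]⟩

theorem ind_xor (a b : ℕ) : ind (om (a ^^^ b)) = ind (om a) + ind (om b) := by
  rw [← Golay.ind_symmDiff]; exact congrArg ind (gc.ofMask_xor a b)

theorem ind_inf : ind (om 8388608) = Pi.single none 1 := by
  rw [show om 8388608 = {none} from gc.ofMask_two_pow (i := 23) (by decide)]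
  funext p; by_cases h : p = none <;> simp [ind, h]

theorem ind_mem {m : ℕ} (h : isCw m = true) : ind (om m) ∈ golayCode := Golay.mem_cw_iff.1 (Golay.om_mem_cw h)

theorem ind_none {m : ℕ} (h : m < 2 ^ 23) : ind (om m) none = 0 :=
  if_neg fun e => by simpa [Nat.testBit_lt_two_pow h, show gc.idx none = 23 from rfl] using gc.mem_ofMask.1 e

theorem lam_cw {m : ℕ} (h : isCw m = true) {w : W} (hw : w ∈ golayCode) : lam m w = 0 := by
  have : lam m w = ∑ i, ind (om m) i * ind (support₂ w) i := by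
    rw [Golay.ind_support₂, lam, ← Finset.univ_inter (om m), ← Finset.sum_ite_mem, Finset.univ_inter]
    exact Finset.sum_congr rfl fun p _ => by unfold ind; split_ifs <;> simp
  rw [this, Golay.sum_ind_mul_ind]
  exact (ZMod.natCast_eq_zero_iff_even).2 (Golay.even_card_inter (Golay.om_mem_cw h) (Golay.support₂_mem_cw_iff.2 hw))

theorem lam_inf (w : W) : lam 8388608 w = w none := by
  rw [lam, show om 8388608 = {none} from gc.ofMask_two_pow (i := 23) (by decide), Finset.sum_singleton]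

theorem lam_single {m : ℕ} (h : m < 2 ^ 23) : lam m (Pi.single none 1) = 0 :=
  Finset.sum_eq_zero fun p hp => Pi.single_eq_of_ne (fun e => by
    simpa [Nat.testBit_lt_two_pow h, e, show gc.idx none = 23 from rfl] using gc.mem_ofMask.1 hp) _

theorem comp_mem {σ : Perm GolayPt} (h : σ ∈ M24) {w : W} (hw : w ∈ golayCode) : w ∘ ⇑σ⁻¹ ∈ golayCode := by
  rw [← Golay.support₂_mem_cw_iff] at hw ⊢
  rw [← Golay.smul_mem_cw_iff h] at hw
  convert hw using 1
  ext p; simp [← Finset.inv_smul_mem_iff, Golay.mem_support₂]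

/-- Code words vanishing at the extra point. -/
noncomputable def shB (m : ℕ) : Bool := cnd (isCw m) (Nat.ble m 8388607) false
/-- The annihilator of the code words vanishing at the extra point. -/
noncomputable def anB (m : ℕ) : Bool := cnd (isCw m) true (isCw (Nat.xor m 8388608))
/-- The code module. -/
def Sc : AddSubgroup W := golayCode.toAddSubgroup ⊓ (Pi.evalAddMonoidHom (fun _ => ZMod 2) none).ker

theorem shB_iff {m : ℕ} (h : shB m = true) : isCw m = true ∧ m < 2 ^ 23 :=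
  ⟨(cnd_tt.1 h).1, Nat.lt_succ_of_le (ble_tt.1 (cnd_tt.1 h).2)⟩

section
variable (N : Subgroup E) [hN : N.Normal] (φ : E ⧸ N ≃* Spor.M23)

/-- The action on the 24 points. -/
def piOf : E →* Perm GolayPt := (Spor.M23.subtype.comp φ.toMonoidHom).comp (QuotientGroup.mk' N)

theorem piOf_eq {g : E} : piOf N φ g = 1 ↔ g ∈ N := by
  rw [← QuotientGroup.eq_one_iff, ← φ.map_eq_one_iff, ← OneMemClass.coe_eq_one]; rfl

theorem ker_piOf : (piOf N φ).ker = N := Subgroup.ext fun _ => piOf_eq N φ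

theorem piOf_surj (σ : Perm GolayPt) (h : σ ∈ Spor.M23) : ∃ g, piOf N φ g = σ := by
  obtain ⟨g, e⟩ := QuotientGroup.mk_surjective (φ.symm ⟨σ, h⟩)
  exact ⟨g, congrArg Subtype.val (φ.apply_eq_iff_eq_symm_apply.2 e)⟩

theorem ext_code (ψ : Additive N →+ W) (hinj : Function.Injective ψ)
    (hrange : ∀ w, w ∈ Set.range ψ ↔ (w ∈ golayCode ∧ w none = 0))
    (hψ : ∀ (g : E) (n : N), ψ (Additive.ofMul ⟨g * n * g⁻¹, hN.conj_mem n n.2 g⟩) =
      ψ (Additive.ofMul n) ∘ ⇑(piOf N φ g)⁻¹) :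
    ∃ θ : W → E, Ext (piOf N φ) Sc θ (fun _ => true) anB shB := by
  refine ⟨fun w => (Function.invFun ψ w).toMul, ?_⟩
  have e := Function.leftInverse_invFun hinj
  have hS : ∀ {P : W → Prop}, (∀ n : N, P (ψ (Additive.ofMul n))) → ∀ w ∈ Sc, P w := fun h w hw => by
    obtain ⟨n, rfl⟩ := (hrange w).2 hw; exact h n
  refine ⟨fun g => (φ g).2, piOf_surj N φ, fun g hg => ⟨ψ (Additive.ofMul ⟨g, (piOf_eq N φ).1 hg⟩),
    (hrange _).1 ⟨_, rfl⟩, by rw [e]; rfl⟩, fun w _ => (piOf_eq N φ).2 (Subtype.prop _),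
    hS fun a => hS fun b => by rw [← map_add, e, e, e]; rfl,
    fun g => hS fun n => hψ g n ▸ (hrange _).1 ⟨_, rfl⟩, fun g => hS fun n => by rw [← hψ, e, e]; rfl,
    fun m _ => hS fun n h => ?_, fun m hm w hw => ?_, fun m hm => ⟨ind_mem (shB_iff hm).1, ind_none (shB_iff hm).2⟩⟩
  · rw [e] at h
    rw [show n = 1 from Subtype.ext h]; simp [lam]
  · rw [anB, cnd_eq] at hm
    split_ifs at hm with h
    · exact lam_cw h hw.1
    · have := lam_cw hm hw.1
      rwa [lam_xor, lam_inf, show w none = 0 from hw.2, add_zero] at this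

theorem ext_cocode (θ : W →+ Additive N) (hs : Function.Surjective θ)
    (hker : ∀ w, θ w = 0 ↔ (w ∈ golayCode ∨ w + Pi.single none 1 ∈ golayCode))
    (hθ : ∀ (g : E) (w : W), ((θ (w ∘ ⇑(piOf N φ g)⁻¹)).toMul : E) = g * ((θ w).toMul : E) * g⁻¹) :
    Ext (piOf N φ) ⊤ (fun w => ((θ w).toMul : E)) shB (fun m => Nat.beq m 0) (fun _ => true) := by
  refine ⟨fun g => (φ g).2, piOf_surj N φ, fun g hg => ?_, fun w _ => (piOf_eq N φ).2 (Subtype.prop _),
    fun a _ b _ => by rw [map_add]; rfl, fun _ _ _ => trivial, fun g w _ => hθ g w, fun m hm w _ h => ?_,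
    fun m hm w _ => by rw [beq_tt.1 hm, lam, show om 0 = ∅ from gc.ofMask_zero]; rfl, fun _ _ => trivial⟩
  · obtain ⟨w, e⟩ := hs (Additive.ofMul ⟨g, (piOf_eq N φ).1 hg⟩)
    exact ⟨w, trivial, by rw [e]; rfl⟩
  · rcases (hker w).1 (Subtype.ext h) with h | h
    · exact lam_cw (shB_iff hm).1 h
    · have := lam_cw (shB_iff hm).1 h
      rwa [lam_add, lam_single (shB_iff hm).2, add_zero] at this

end

theorem nd_code {I : List ℕ} {pA : ℕ → ℕ} (h : allN 4096 (fun j => cnd (Nat.ble (cwN j) 8388607)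
    (cnd (allL I fun i => cnd (par (pA i) (cwN j)) false true) (Nat.beq (cwN j) 0) true) true) = true)
    {w : W} (hw : w ∈ Sc) (h0 : ∀ i ∈ I, lam (pA i) w = 0) : w = 0 := by
  obtain ⟨j, hj, e⟩ := Golay.exists_cwN (Golay.support₂_mem_cw_iff.2 hw.1)
  have e' : w = ind (om (cwN j)) := by rw [e, Golay.ind_support₂]
  have := allN_iff.1 h j hj
  rw [ble_tt.2, cnd_true, allL_iff.2, cnd_true, beq_tt] at this
  · rw [e', this, show om 0 = ∅ from gc.ofMask_zero, Golay.ind_empty]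
  · intro i hi
    have := h0 i hi
    rw [e', lam_ind] at this
    revert this; cases par (pA i) (cwN j) <;> simp [cnd]
  · have h1 : (cwN j).testBit 23 = false := by
      have : none ∉ om (cwN j) := e ▸ fun h => Golay.mem_support₂.1 h hw.2
      simpa [gc.mem_ofMask, show gc.idx none = 23 from rfl] using this
    by_contra h2
    rw [Nat.testBit_of_two_pow_le_and_two_pow_add_one_gt (by omega) (Golay.cwN_lt hj)] at h1
    exact Bool.noConfusion h1

theorem nd_cocode {I : List ℕ} {pA : ℕ → ℕ} (hI : ∀ i ∈ I, isCw (pA i) = true) (h : allN 4096 (fun j =>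
    cnd (allL I fun i => cnd (par (pA i) (Nat.mul 4096 j)) false true) (Nat.beq (Nat.mod j 2048) 0) true) = true)
    {w : W} (h0 : ∀ i ∈ I, lam (pA i) w = 0) : w ∈ golayCode ∨ w + Pi.single none 1 ∈ golayCode := by
  obtain ⟨m, hm, rfl⟩ := exists_ind w
  have hc := Golay.isCw_cwN (Nat.mod_lt m (by norm_num : 0 < 4096))
  have h1 : m ^^^ cwN (m % 4096) < 2 ^ 24 := Nat.xor_lt_two_pow hm (Golay.isCw_lt hc)
  have h2 : (m ^^^ cwN (m % 4096)) % 2 ^ 12 = 0 := by
    rw [Nat.xor_mod_two_pow, show cwN (m % 4096) % 2 ^ 12 = m % 2 ^ 12 from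
      Golay.cwN_mod (Nat.mod_lt _ (by norm_num)), Nat.xor_self]
  obtain ⟨j, hj⟩ : ∃ j, m ^^^ cwN (m % 4096) = 4096 * j := ⟨_, (Nat.mul_div_cancel' (Nat.dvd_of_mod_eq_zero h2)).symm⟩
  have e : ind (om m) = ind (om (4096 * j)) + ind (om (cwN (m % 4096))) := by
    rw [← hj, ind_xor, add_assoc, ww, add_zero]
  have := allN_iff.1 h j (by omega)
  rw [allL_iff.2, cnd_true, beq_tt] at this
  · have h3 : j = 0 ∨ j = 2048 := by have : j % 2048 = 0 := this; omega
    rw [e]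
    rcases h3 with rfl | rfl
    · exact Or.inl (add_mem (ind_mem (by decide +kernel)) (ind_mem hc))
    · right
      rw [show 4096 * 2048 = 8388608 from rfl, ind_inf, add_right_comm, ww, zero_add]; exact ind_mem hc
  · intro i hi
    have := h0 i hi
    rw [e, lam_add, lam_cw (hI i hi) (ind_mem hc), add_zero, lam_ind] at this
    revert this; change _ → cnd (par (pA i) (4096 * j)) false true = true; cases par (pA i) (4096 * j) <;> simp [cnd]

end Cfsg.Lib.MatB.H2
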