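import Cfsg.Agent.Lib.MatB.H2D

/-! # A non-split extension of `M23` by the cocode module, as a group of signed permutations -/

namespace Cfsg.Lib.MatB.H2

open Cfsg.Lib.Comp Subgroup Equiv MulAction
open Golay (om gc ind imgT pop24 mulN idN getL wordN isCw cwN)
open scoped Pointwise

/-- The letter belongs to `L`. -/
noncomputable def okL (L : List ℕ) (x _i : ℕ) : Bool := Nat.beq (Nat.land (Nat.shiftRight (msk L) x) 1) 1

theorem okL_iff {L : List ℕ} {x i : ℕ} (h : okL L x i = true) : x ∈ L := testBit_msk.1 (beq_bit _ _ ▸ h)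

/-- The signed permutations have the tail `t.2` on the word `t.1`. -/
noncomputable def sgnB (L : List ℕ) (act : ℕ → ℕ → ℕ) (sg : ℕ → ℕ → Bool) (pA : ℕ → ℕ) (t : List ℕ × ℕ) (i : ℕ) : Bool :=
  loop act (fun x j => cnd (sg x j) 1 0) (okL L) (fun b => Nat.beq b (cnd (par (pA i) t.2) 1 0)) t.1 i

/-- Equations for a complement. -/
noncomputable def cplB (n : ℕ) (L : List ℕ) (act : ℕ → ℕ → ℕ) (sg : ℕ → ℕ → Bool) (pA : ℕ → ℕ) (T : List (List ℕ × ℕ))
    (B : List ℕ) (Q : ℕ → ℕ) (j : ℕ) : Bool :=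
  force (Nat.mod (Q j) 64) fun r => force (Nat.div (Q j) 64) fun i => cnd (Nat.ble (Nat.succ i) n)
    (loop act (fun x j => Nat.xor (Nat.shiftLeft (pA j) (Nat.succ (Nat.mul 24 x))) (cnd (sg x j) 1 0)) (okL L)
      (fun b => Nat.beq (redN B j b) (nth 0 B j)) (nth ([], 0) T r).1 i) false

variable (n : ℕ) [NeZero n] (pA : ℕ → ℕ)

/-- The module element of a word. -/
def eta (w : W) : Perm (Fin n × ZMod 2) × Perm GolayPt :=
  (Equiv.prodShear (Equiv.refl _) fun a => Equiv.addRight (lam (pA a) w), 1)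

theorem eta_add (v w : W) : eta n pA (v + w) = eta n pA v * eta n pA w :=
  Prod.ext (Equiv.ext fun a => Prod.ext rfl (by simp [eta, lam_add, add_assoc, add_comm (lam _ v)])) (one_mul _).symm

/-- Signed action. -/
def RelC (g : Perm (Fin n × ZMod 2) × Perm GolayPt) (i j : ℕ) (u : ZMod 2) : Prop :=
  ∀ e, g.1 (Fin.ofNat n j, e) = (Fin.ofNat n i, e + u)

theorem coc_relC : Coc (RelC n) :=
  ⟨fun i e => by simp, fun {g h i j k u v} a b e => by
    rw [Prod.fst_mul, Perm.mul_apply, b, a, add_assoc, add_comm v], fun a b => by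
    simpa using congrArg Prod.snd ((a 0).symm.trans (b 0))⟩

variable {n}

theorem val_of {i : ℕ} (h : i < n) : (Fin.ofNat n i : ℕ) = i := Nat.mod_eq_of_lt h

theorem relC_eta (w : W) {i : ℕ} (h : i < n) : RelC n (eta n pA w) i i (lam (pA i) w) := fun e => by
  simp only [eta, Equiv.prodShear_apply, val_of h]; rfl

theorem eq_eta {g : Perm (Fin n × ZMod 2) × Perm GolayPt} {w : W} (h : ∀ i < n, RelC n g i i (lam (pA i) w))
    (h2 : g.2 = 1) : g = eta n pA w := by
  refine Prod.ext (Equiv.ext fun ⟨a, e⟩ => ?_) h2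
  have := (h a a.2 e).trans (relC_eta pA w a.2 e).symm
  rwa [Fin.ofNat_val_eq_self] at this

variable {pA}

theorem exists_nonsplit {gs : List ℕ} (hgs : ∀ g ∈ gs, gc.InH Spor.M23 g) {iv : ℕ → ℕ} {R T : List (List ℕ × ℕ)}
    {L I B : List ℕ} {act : ℕ → ℕ → ℕ} {sg : ℕ → ℕ → Bool} {Q : ℕ → ℕ} {k : ℕ} (ho : Ord.{0} iv R L 10200960)
    (hT : Tgt iv R L T) (hg : cl (fun x => (gl hgs x).1) L = Spor.M23)
    (h0 : ∀ t ∈ T, Nat.beq (wordN 24 gs t.1) (wordN 24 gs []) = true)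
    (h1 : ∀ x ∈ L, ∀ i < n, tabB gs n act pA pA x i = true ∧ act (iv x) (act x i) = i) (h2 : ∀ i < n, shB (pA i) = true)
    (h3 : ∀ t ∈ T, ∀ i < n, sgnB L act sg pA t i = true) (h4 : ∀ j < k + 1, cplB n L act sg pA T B Q j = true)
    (h5 : nth 0 B k = 1) (hI : ∀ i ∈ I, i < n)
    (nd : ∀ w, (∀ i ∈ I, lam (pA i) w = 0) → w ∈ golayCode ∨ w + Pi.single none 1 ∈ golayCode) :
    ∃ (E : Type) (_ : Group E) (_ : Finite E) (N : Subgroup E) (_ : N.Normal)
      (φ : E ⧸ N ≃* ↥Spor.M23) (θ : W →+ Additive ↥N), Function.Surjective θ ∧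
      (∀ w, θ w = 0 ↔ (w ∈ golayCode ∨ w + Pi.single none 1 ∈ golayCode)) ∧
      (∀ (g : E) (w : W), ((θ (w ∘ ⇑(((φ (QuotientGroup.mk g) : ↥Spor.M23) : Perm GolayPt)⁻¹))).toMul : E)
          = g * ((θ w).toMul : E) * g⁻¹) ∧ ∀ H : Subgroup E, H ⊓ N = ⊥ → H ⊔ N ≠ ⊤ := by
  classical
  let s : ℕ → ℕ → ZMod 2 := fun x i => if sg x i then 1 else 0
  let f : ℕ → Fin n × ZMod 2 → Fin n × ZMod 2 := fun x a => (Fin.ofNat n (act x a.1), a.2 + s x a.1)
  have hf : ∀ x ∈ L, Function.Bijective (f x) := fun x hx => Finite.injective_iff_bijective.1 fun a b e => by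
    have e1 := congrArg (fun c => act (iv x) c.1) e
    simp only [f, val_of (tabB_iff hgs (h1 x hx _ a.1.2).1).1, val_of (tabB_iff hgs (h1 x hx _ b.1.2).1).1,
      (h1 x hx _ a.1.2).2, (h1 x hx _ b.1.2).2] at e1
    have e2 := congrArg Prod.snd e
    simp only [f, e1, add_left_inj] at e2
    exact Prod.ext (Fin.ext e1) e2
  let δ : ℕ → Perm (Fin n × ZMod 2) × Perm GolayPt := fun x =>
    if h : x ∈ L then ((Equiv.ofBijective _ (hf x h)).symm, (gl hgs x).1) else 1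
  have d2 : ∀ x ∈ L, (δ x).2 = (gl hgs x).1 := fun x hx => by simp only [δ, dif_pos hx]
  have hδ : ∀ x ∈ L, ∀ i < n, act x i < n ∧ RelC n (δ x) i (act x i) (s x i) := fun x hx i hi =>
    ⟨(tabB_iff hgs (h1 x hx i hi).1).1, fun e => by
      simp only [δ, dif_pos hx, Equiv.symm_apply_eq, Equiv.ofBijective_apply, f, val_of hi, add_assoc, aa, add_zero]⟩
  let K := thS ⊤ (eta n pA) fun v _ w _ => eta_add n pA v w
  let C : Subgroup (Perm (Fin n × ZMod 2) × Perm GolayPt) :=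
    { carrier := {g | g.2 ∈ Spor.M23 ∧ ∀ w, eta n pA (w ∘ ⇑g.2⁻¹) = g * eta n pA w * g⁻¹}
      one_mem' := ⟨one_mem _, fun w => by simp⟩
      mul_mem' := fun {a b} ha hb => ⟨mul_mem ha.1 hb.1, fun w => by
        rw [Prod.snd_mul, mul_inv_rev, Perm.coe_mul, ← Function.comp_assoc, ha.2, hb.2]; group⟩
      inv_mem' := fun {a} ha => ⟨inv_mem ha.1, fun w => by
        have := ha.2 (w ∘ ⇑a⁻¹.2⁻¹)
        rw [Function.comp_assoc, ← Perm.coe_mul, Prod.snd_inv, inv_inv, mul_inv_cancel, Perm.coe_one,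
          Function.comp_id] at this
        rw [this, Prod.snd_inv, inv_inv]; group⟩ }
  have hC : cl δ L ⊔ K ≤ C := by
    refine sup_le (cl_le.2 fun x hx => ⟨d2 x hx ▸ (gl hgs x).2, fun w => (eq_eta pA (fun i hi => ?_) ?_).symm⟩) ?_
    · obtain ⟨a, b⟩ := hδ x hx i hi
      rw [d2 x hx, lam_smul (tabB_iff hgs (h1 x hx i hi).1).2.2]
      intro e
      have := (coc_relC n).mul b (relC_eta pA w a) (e + s x i)
      rw [Prod.fst_mul, Perm.mul_apply, Prod.fst_inv, show (δ x).1⁻¹ (Fin.ofNat n i, e) = (Fin.ofNat n (act x i), e + s x i)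
        from Perm.inv_eq_iff_eq.2 (by rw [b, add_assoc, aa, add_zero]), this, add_assoc, ← add_assoc (s x i), aa, zero_add]
    · simp [eta]
    · rintro _ ⟨v, -, rfl⟩
      refine ⟨one_mem _, fun w => ?_⟩
      rw [← eta_add, add_comm, eta_add, mul_inv_cancel_right]; rfl
  have e2 : ∀ (γ : ℕ → Perm (Fin n × ZMod 2) × Perm GolayPt), (∀ x ∈ L, (γ x).2 = (gl hgs x).1) → ∀ t ∈ T,
      (ev γ t.1).2 = 1 := fun γ h t ht => by
    refine (ev_map γ (MonoidHom.snd _ _) _).trans ((ev_congr _ fun x hx => h x (hT.2.2.1 t ht x hx)).trans ?_)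
    exact (ev_map _ (Subgroup.subtype _) _).symm.trans (congrArg Subtype.val (ev_gl_eq hgs (h0 t ht)))
  have hc : cl (fun x => MonoidHom.snd _ _ (δ x)) L = Spor.M23 :=
    (congrArg Subgroup.closure (Set.image_congr d2)).trans hg
  have hK : ∀ g ∈ cl δ L ⊔ K, g.2 = 1 → g ∈ K := fun g => mem_of_ord (K := K) (MonoidHom.snd _ _) ho hT
    (by rintro _ ⟨w, -, rfl⟩; rfl) (fun x => mem_norm_thS fun w _ => ⟨_, trivial, (hC (show δ x ∈ _ by
      by_cases hx : x ∈ L; exacts [mem_sup_left (mem_cl hx), by simp only [δ, dif_neg hx]; exact one_mem _])).2 w⟩)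
    (fun x hx => dif_neg hx) (fun t ht => ⟨ind (om t.2), trivial, (eq_eta pA (fun i hi => by
      obtain ⟨b, a1, a2⟩ := loop_sound (y := fun _ => 1) (γ := δ) (coc_relC n) (fun x j hj ho => by
        rw [evy_cnd, evy_one, mul_one]; exact hδ x (okL_iff ho) j hj) hi (h3 t ht i hi)
      rwa [beq_tt.1 a1, evy_cnd, evy_one, mul_one, ← lam_ind] at a2) (e2 δ d2 t ht)).symm⟩)
    (by rw [hc, Golay.card_M23])
  let p : ↥(cl δ L ⊔ K) →* Spor.M23 := ((MonoidHom.snd _ _).comp (cl δ L ⊔ K).subtype).codRestrict _ fun g => (hC g.2).1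
  have hp : Function.Surjective p := fun ⟨σ, h⟩ => by
    rw [← hc, ← cl_map] at h
    obtain ⟨g, a, rfl⟩ := h
    exact ⟨⟨g, mem_sup_left a⟩, rfl⟩
  let θ : W →+ Additive p.ker := AddMonoidHom.mk' (fun w => Additive.ofMul ⟨⟨eta n pA w, mem_sup_right ⟨w, trivial, rfl⟩⟩, rfl⟩)
    fun v w => Subtype.ext (Subtype.ext (eta_add n pA v w))
  refine ⟨_, inferInstance, inferInstance, p.ker, inferInstance, QuotientGroup.quotientKerEquivOfSurjective p hp, θ,
    fun g => ?_, fun w => ⟨fun h => nd w fun i hi => ?_, fun h => ?_⟩, fun g w => Subtype.ext ((hC g.2).2 w),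
    fun H a b => ?_⟩
  · obtain ⟨w, -, e⟩ := hK _ g.toMul.1.2 (congrArg Subtype.val g.toMul.2)
    exact ⟨w, Subtype.ext (Subtype.ext e)⟩
  · have : eta n pA w = 1 := congrArg (fun g : Additive p.ker => g.toMul.1.1) h
    exact (coc_relC n).uniq (relC_eta pA w (hI i hi)) (this ▸ (coc_relC n).one i)
  · refine Subtype.ext (Subtype.ext (eq_eta pA (fun i hi => ?_) rfl).symm)
    have : lam (pA i) w = 0 := by
      rcases h with h | h
      · exact lam_cw (shB_iff (h2 i hi)).1 h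
      · have := lam_cw (shB_iff (h2 i hi)).1 h
        rwa [lam_add, lam_single (shB_iff (h2 i hi)).2, add_zero] at this
    exact this ▸ (coc_relC n).one i
  · have : ∀ x, ∃ h ∈ H, ∃ V, x ∈ L → h.1 = eta n pA V * δ x := fun x => by
      by_cases hx : x ∈ L
      · obtain ⟨y, hy, z, hz, e⟩ := mem_sup_of_normal_right.1 (b ▸ mem_top (⟨δ x, mem_sup_left (mem_cl hx)⟩ : ↥(cl δ L ⊔ K)))
        obtain ⟨V, -, e'⟩ := hK _ (y * (y * z)⁻¹).2 (congrArg Subtype.val (show p (y * (y * z)⁻¹) = 1 by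
          rw [map_mul, map_inv, map_mul, show p z = 1 from hz, mul_one, mul_inv_cancel]))
        exact ⟨y, hy, V, fun _ => by rw [e', e]; simp⟩
      · exact ⟨1, one_mem _, 0, fun h => absurd h hx⟩
    choose h a1 V a2 using this
    let y : ℕ → ZMod 2 := fun k => if k = 0 then 1 else V ((k - 1) / 24) (gc.pt ((k - 1) % 24))
    have := rows_zero (y := y) (B := B) (fun j hj => ?_) k (Nat.lt_succ_self k)
    · rw [h5, evy_one] at this
      exact one_ne_zero this
    have c := h4 j hj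
    simp only [cplB, force_eq, cnd_tt, ble_tt] at c
    obtain ⟨b, b1, b2⟩ := loop_sound (y := y) (γ := fun x => (h x).1) (coc_relC n) (fun x j hj ho => by
      obtain ⟨c1, c2⟩ := hδ x (okL_iff ho) j hj
      have hl : pA j < 2 ^ 24 := (shB_iff (h2 j hj)).2.trans (by norm_num)
      rw [evy_xor, evy_cnd, evy_one, show y 0 = 1 from rfl, mul_one, evy_shl,
        evy_congr (y' := fun k => V x (gc.pt k)) hl, lam_evy hl, a2 x (okL_iff ho)]
      · exact ⟨c1, (coc_relC n).mul (relC_eta pA _ hj) c2⟩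
      intro k hk
      have e : Nat.succ (Nat.mul 24 x) + k - 1 = 24 * x + k := by simp only [Nat.mul_eq, Nat.succ_eq_add_one]; omega
      simp only [y]
      rw [if_neg (by simp only [Nat.succ_eq_add_one]; omega), e, Nat.mul_add_div (by norm_num), Nat.div_eq_of_lt hk,
        Nat.mul_add_mod, Nat.mod_eq_of_lt hk, add_zero]) c.1 c.2
    refine ⟨b, (coc_relC n).uniq b2 ?_, beq_tt.1 b1⟩
    have : ev (fun x => (h x).1) (nth ([], 0) T (Nat.mod (Q j) 64)).1 = 1 := by
      rcases nth_mem ([], 0) T (Nat.mod (Q j) 64) with e | e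
      · rw [e, ev_nil]
      · have e3 := ev_map h (Subgroup.subtype _) (nth ([], 0) T (Nat.mod (Q j) 64)).1
        refine e3.symm.trans (congrArg Subtype.val (mem_bot.1 (a ▸ ⟨ev_mem fun x _ => a1 x, Subtype.ext ?_⟩)))
        exact (congrArg Prod.snd e3).trans (e2 _ (fun x hx => by
          change (h x).1.2 = _; rw [a2 x hx, Prod.snd_mul, d2 x hx]; exact one_mul _) _ e)
    exact this ▸ (coc_relC n).one _

end Cfsg.Lib.MatB.H2
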