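import Cfsg.Agent.Lib.Comp.Sym2
import Cfsg.Agent.Lib.Comp.Subst3

/-!
# Double coset enumeration with arbitrary axioms; membership and covers
-/

namespace Cfsg.Lib.Comp

universe u

/-- A word lying in a subgroup of known order and trivial in a model is a relator. -/
theorem cons_of_mem_ord {iv : ℕ → ℕ} {R R' : List (List ℕ × ℕ)} {L : List ℕ} {G : List (List ℕ)} {m : ℕ}
    (hO : Ord.{u} iv R' L m) (hc : Cons.{u} iv R R') (hM : Mem.{u} iv R (L.map fun x => [x]) G)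
    {Δ : Type} [Group Δ] {δ : ℕ → Δ} (h1 : IvOK δ iv) (h2 : Rels δ R) (hm : m ≤ Nat.card (cl δ L))
    (h3 : Rels δ (G.map fun w => (w, 0))) : Cons.{u} iv R (G.map fun w => (w, 0)) := by
  intro Γ _ γ g1 g2 r hr
  obtain ⟨w, hw, rfl⟩ := List.mem_map.1 hr
  have a1 := h1.prod g1
  have a2 := h2.prod g2
  obtain ⟨b1, b2⟩ := hO (Δ × Γ) _ a1 (hc _ _ a1 a2)
  have b3 := hM (Δ × Γ) _ (cl (fun x => (δ x, γ x)) L) a1 a2 (fun w hw => by rw [← cl_eq_clw]; exact mem_clw hw) w hw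
  set D := cl (fun x => (δ x, γ x)) L
  have hm' : D.map (MonoidHom.fst Δ Γ) = cl δ L := cl_map _ _ _
  have hi : Function.Injective ((MonoidHom.fst Δ Γ).subgroupMap D) :=
    ((Nat.bijective_iff_surjective_and_card _).2 ⟨MonoidHom.subgroupMap_surjective _ _, le_antisymm
      (by rw [hm']; exact b2.trans hm) (Nat.card_le_card_of_surjective _ (MonoidHom.subgroupMap_surjective _ _))⟩).1
  have e := h3 _ hr
  simp only [zero_add, pow_one] at e ⊢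
  have := (injective_iff_map_eq_one _).1 hi ⟨_, b3⟩ (Subtype.ext (by
    change (ev (fun x => (δ x, γ x)) w).1 = 1
    rw [ev_prod]; exact e))
  have h4 := congrArg (fun z : D => (z : Δ × Γ).2) this
  simp only [ev_prod] at h4
  exact h4

/-- Axioms: as before, or loops `τ (x₁ s) = x₁ n` at the first node. -/
def AxJ (iv' : ℕ → ℕ) (t : ℕ) (W : List (List ℕ)) (PA : List (List (List ℕ))) (F : ℕ → SF) (LN L : List ℕ) (na : ℕ) :
    Prop :=
  nth [] PA 0 = [] ∧ ∀ j < na, if (F j).2.2.1 = 0 then (F j).1 = 0 ∧ (F j).2.1 = 0 ∧ (F j).2.2.2.2 ∈ W ∧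
      ∀ a ∈ (F j).2.2.2.2, a ∈ LN ∧ a ∈ L
    else ((F j).2.2.2.2 = [] ∧ nth [] PA (F j).2.1 = nth [] PA (F j).1 ++ [(F j).2.2.2.1]) ∨
      (nth [] PA (F j).1 = [[]] ∧ (F j).2.1 = (F j).1 ∧ (∀ a ∈ (F j).2.2.2.1, a ∈ LN) ∧
        (∀ a ∈ (F j).2.2.2.2, a ∈ LN ∧ a ∈ L ∧ a < 64) ∧
        t :: (F j).2.2.2.1 ++ t :: invA iv' (F j).2.2.2.2 [iv' t] ∈ W)

noncomputable instance (iv' : ℕ → ℕ) (t : ℕ) (W : List (List ℕ)) (PA : List (List (List ℕ))) (F : ℕ → SF)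
    (LN L : List ℕ) (na : ℕ) : Decidable (AxJ iv' t W PA F LN L na) := by
  unfold AxJ
  refine @instDecidableAnd _ _ inferInstance (@Nat.decidableBallLT _ _ fun j _ => @instDecidableIte _ _ _ _ ?_
    (@instDecidableOr _ _ ?_ ?_))
  all_goals infer_instance

/-- The position of a node. -/
noncomputable def nodeX (nets : List Net) (G : Subgroup (Equiv.Perm ℕ)) {X : Type*} [MulAction G X] (τ : X → X)
    (x0 : X) (PA : List (List (List ℕ))) (k : ℕ) : X := (nth [] PA k).foldl (fun y s => τ (ra nets G y s)) x0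

section
variable {N : ℕ} {nets : List Net} {tb : ℕ → ℕ → ℕ} {B L LN : List ℕ} {iv iv' : ℕ → ℕ} {R : List (List ℕ × ℕ)}
  {t : ℕ} {LΓ j1 j2 : List ℕ} {PR : List (ℕ × List ℕ × List (List ℕ))} {GW : List (List ℕ)} {al : ℕ → ℕ}
  {D0 : List (ℕ × ℕ × List ℕ)} {W : List (List ℕ)} {PA : List (List (List ℕ))} {F : ℕ → SF} {na nf : ℕ} {D : ℕ → SD}
  {Γ : Type u} [Group Γ] {γ : ℕ → Γ} {H : Subgroup Γ} {φ : cl (gp nets) LN →* Γ}

/-- `φ` maps the letters to the letters. -/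
def PhiOK (nets : List Net) (LN : List ℕ) (γ : ℕ → Γ) (φ : cl (gp nets) LN →* Γ) : Prop :=
  ∀ (w : List ℕ) (hw : ∀ x ∈ w, x ∈ LN), φ ⟨ev (gp nets) w, ev_mem fun x hx => mem_cl (hw x hx)⟩ = ev γ w

theorem PhiOK.evG (hφ : PhiOK nets LN γ φ) {w : List ℕ} (hw : ∀ a ∈ w, a ∈ LN) :
    φ (evG nets (cl (gp nets) LN) w) = ev γ w := by
  rw [← hφ w hw]
  exact congrArg φ (Subtype.ext (coe_ev_sval fun a ha => mem_cl (hw a ha)))

theorem PhiOK.range (hφ : PhiOK nets LN γ φ) : φ.range = cl γ LN := by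
  rw [MonoidHom.range_eq_map, ← cl_sval_top (gp nets) LN]
  refine map_cl_of_gen fun x hx => ?_
  have := hφ.evG (w := [x]) (by simpa using hx)
  unfold Comp.evG at this
  rwa [ev_single, ev_single] at this

theorem PhiOK.run (hφ : PhiOK nets LN γ φ) (S : List (List ℕ)) (hS : ∀ s ∈ S, ∀ a ∈ s, a ∈ LN) (y : Γ ⧸ H) :
    letI : MulAction (cl (gp nets) LN) (Γ ⧸ H) := MulAction.compHom _ φ
    srun nets (cl (gp nets) LN) (fun y : Γ ⧸ H => (γ t)⁻¹ • y) S y = (ev γ (S.flatMap (t :: ·)))⁻¹ • y := by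
  letI : MulAction (cl (gp nets) LN) (Γ ⧸ H) := MulAction.compHom _ φ
  induction S generalizing y with
  | nil => simp [srun, ev_nil]
  | cons s S ih =>
    change srun nets _ _ S (φ (Comp.evG nets _ s)⁻¹ • (γ t)⁻¹ • y) = _
    rw [ih fun s hs => hS s (by simp [hs]), map_inv, hφ.evG (hS s (by simp)), List.flatMap_cons, ev_append, ev_cons]
    simp [mul_smul]

theorem sym_core (C : Ctl nets tb B L iv (cl (gp nets) LN)) (hφ : PhiOK nets LN γ φ) (g1 : IvOK γ iv')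
    (hG : ∀ w ∈ GW, ev γ w = 1) (hP : PrOK iv' t LN LΓ j1 j2 PR GW) (hS : semiB tb B L al PR D0 = true)
    (hA : AxJ iv' t W PA F LN L na) (hW : ∀ w ∈ W, ev γ w ∈ H)
    (hD : ∀ j, na ≤ j → j < nf → der tb B L iv (mapL (·.1) D0) al j1 j2 PR F (D j) j = true) :
    letI : MulAction (cl (gp nets) LN) (Γ ⧸ H) := MulAction.compHom _ φ
    Semi nets (cl (gp nets) LN) (fun y : Γ ⧸ H => (γ t)⁻¹ • y) (mapL (·.1) D0) al ∧ (∀ a ∈ mapL (·.1) D0, a ∈ L) ∧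
      ∀ j < nf, (F j).ok nets (cl (gp nets) LN) L
        (nodeX nets (cl (gp nets) LN) (fun y : Γ ⧸ H => (γ t)⁻¹ • y) ((1 : Γ) : Γ ⧸ H) PA) fun y => (γ t)⁻¹ • y := by
  letI : MulAction (cl (gp nets) LN) (Γ ⧸ H) := MulAction.compHom _ φ
  have hr : ∀ w : List ℕ, (∀ a ∈ w, a ∈ LN) → ∀ y : Γ ⧸ H, ra nets (cl (gp nets) LN) y w = (ev γ w)⁻¹ • y := by
    intro w hw y
    rw [← hφ.evG hw, ← map_inv]; rfl
  set τ : Γ ⧸ H → Γ ⧸ H := fun y => (γ t)⁻¹ • y with hτ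
  have hPO : ProgOK nets (cl (gp nets) LN) τ PR := by
    intro p hp y
    obtain ⟨a1, a2, a3⟩ := hP.2.2.2 p hp
    have a4 := hG _ a1
    rw [hφ.run _ a3, hr _ a2, ← mul_smul, ← mul_inv_rev, ← ev_append]
    unfold progW at a4
    split_ifs at a4 ⊢
    · rw [List.append_nil] at a4; rw [a4, inv_one, one_smul]
    · rw [ev_append, ev_single, (g1.2 t hP.1).2, mul_inv_eq_one] at a4; rw [a4]
  obtain ⟨s1, s2⟩ := semi_of_semiB C hPO hS
  refine ⟨s1, s2, facts_ok C s1 (fun y => ?_) hPO (fun j hj => ?_) hD⟩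
  · have := hPO _ hP.2.1 y
    rwa [ra_nil] at this
  · have a1 := hA.2 j hj
    unfold SF.ok
    split_ifs at a1 ⊢
    · obtain ⟨b1, b2, b3, b4⟩ := a1
      refine ⟨fun a ha => (b4 a ha).2, ?_⟩
      rw [b1, b2, nodeX, hA.1, List.foldl_nil, hr _ fun a ha => (b4 a ha).1]
      exact (smul_one_of_mem.2 (H.inv_mem (hW _ b3))).symm
    · rcases a1 with a1 | ⟨b1, b2, b3, b4, b5⟩
      · rw [a1.1, ra_nil]
        exact ⟨by simp, by simp only [nodeX, a1.2, List.foldl_append, List.foldl_cons, List.foldl_nil]⟩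
      · refine ⟨fun a ha => (b4 a ha).2.1, ?_⟩
        have b6 := smul_one_of_mem.2 (H.inv_mem (hW _ b5))
        rw [List.cons_append, ev_cons, ev_append, ev_cons, ev_invA g1 fun a ha => (b4 a ha).2.2, ev_single,
          (g1.2 t hP.1).2] at b6
        rw [b2, nodeX, b1, List.foldl_cons, List.foldl_nil, ra_nil, hr _ b3, hr _ fun a ha => (b4 a ha).1]
        simp only [hτ, mul_inv_rev, inv_inv, mul_smul] at b6 ⊢
        rw [eq_inv_smul_iff, eq_inv_smul_iff]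
        exact b6

/-- Trace of a word from the first node back to it. -/
noncomputable def memJ (tb : ℕ → ℕ → ℕ) (B L : List ℕ) (iv : ℕ → ℕ) (L0 : List ℕ) (al : ℕ → ℕ) (F : ℕ → SF) (nf : ℕ)
    (LN : List ℕ) (d : List ℕ × List (List ℕ) × List (List ℕ × ℕ × List ℕ) × List ℕ) : Bool :=
  cnd (subB d.1 LN) (cnd (allL d.2.1 fun s => subB s LN) (trc tb B L iv L0 al F nf d.2.1 d.2.2.1 0 d.1 fun v g =>
    epsU iv F nf d.2.2.2 v g fun v' _ => Nat.beq v' 0) false) false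

theorem sym_mem (C : Ctl nets tb B L iv (cl (gp nets) LN)) (hφ : PhiOK nets LN γ φ) (g1 : IvOK γ iv')
    (hG : ∀ w ∈ GW, ev γ w = 1) (hP : PrOK iv' t LN LΓ j1 j2 PR GW) (hS : semiB tb B L al PR D0 = true)
    (hA : AxJ iv' t W PA F LN L na) (hW : ∀ w ∈ W, ev γ w ∈ H) (hH : cl γ LN ≤ H)
    (hD : ∀ j, na ≤ j → j < nf → der tb B L iv (mapL (·.1) D0) al j1 j2 PR F (D j) j = true)
    {E : List (List ℕ × List (List ℕ) × List (List ℕ × ℕ × List ℕ) × List ℕ)}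
    (hE : allL E (memJ tb B L iv (mapL (·.1) D0) al F nf LN) = true) :
    ∀ w ∈ E.map fun d => d.1 ++ d.2.1.flatMap (t :: ·), ev γ w ∈ H := by
  letI : MulAction (cl (gp nets) LN) (Γ ⧸ H) := MulAction.compHom _ φ
  obtain ⟨s1, -, hF⟩ := sym_core C hφ g1 hG hP hS hA hW hD
  intro w hw
  obtain ⟨d, hd, rfl⟩ := List.mem_map.1 hw
  have h := allL_iff.1 hE d hd
  unfold memJ at h
  rw [cnd_tt, cnd_tt] at h
  obtain ⟨v, g, k1, k2⟩ := trc_sound C s1 hF h.2.2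
  obtain ⟨v', g', k3, k4⟩ := epsU_sound C (fun j hj _ => hF j hj) k1
  rw [k4, beq_tt.1 k3, hφ.run _ (sub_of_allL h.2.1), nodeX, hA.1, List.foldl_nil] at k2
  change _ • φ (evG nets _ d.1)⁻¹ • ((1 : Γ) : Γ ⧸ H) = φ (evG nets _ g')⁻¹ • ((1 : Γ) : Γ ⧸ H) at k2
  rw [(smul_one_of_mem (a := φ (evG nets _ g')⁻¹)).2 (hH (hφ.range ▸ ⟨_, rfl⟩)), map_inv, hφ.evG (sub_of_subB h.1), ← mul_smul,
    smul_one_of_mem, ← mul_inv_rev, ← ev_append] at k2
  exact (Subgroup.inv_mem_iff _).1 k2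

/-- A closed enumeration: the orbits of the nodes cover everything, and their lengths are bounded. -/
theorem sym_cover (hN : NetsOK N nets) (C : Ctl nets tb B L iv (cl (gp nets) LN)) (hφ : PhiOK nets LN γ φ)
    (g1 : IvOK γ iv') {o : ℕ} (ho : Nat.card (cl (gp nets) LN) = o)
    (hG : ∀ w ∈ GW, ev γ w = 1) (hP : PrOK iv' t LN LΓ j1 j2 PR GW) (hS : semiB tb B L al PR D0 = true)
    {n : ℕ} (hn : ∀ g ∈ cl (gp nets) LN, g 0 < n)
    (h0 : ∀ g ∈ cl (gp nets) LN, g 0 = 0 → g ∈ cl (gp nets) (mapL (·.1) D0))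
    (hA : AxJ iv' t W PA F LN L na) (hW : ∀ w ∈ W, ev γ w ∈ H)
    (hD : ∀ j, na ≤ j → j < nf → der tb B L iv (mapL (·.1) D0) al j1 j2 PR F (D j) j = true)
    {kk : ℕ} {V : List SN} (hV : allL V (nodeB nets tb L F nf n kk o (mapL (·.1) V)) = true)
    (hV0 : 0 ∈ mapL (·.1) V) (ht : cl γ LΓ = ⊤) :
    letI : MulAction (cl (gp nets) LN) (Γ ⧸ H) := MulAction.compHom _ φ
    (∀ v ∈ V, (MulAction.orbit (cl (gp nets) LN) (nodeX nets (cl (gp nets) LN) (fun y : Γ ⧸ H => (γ t)⁻¹ • y)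
      ((1 : Γ) : Γ ⧸ H) PA v.1)).ncard ≤ v.2.2.2.2.2) ∧
    ∀ y : Γ ⧸ H, y ∈ uni (cl (gp nets) LN) (nodeX nets (cl (gp nets) LN) (fun y : Γ ⧸ H => (γ t)⁻¹ • y)
      ((1 : Γ) : Γ ⧸ H) PA) (V.map (·.1)) := by
  letI : MulAction (cl (gp nets) LN) (Γ ⧸ H) := MulAction.compHom _ φ
  obtain ⟨s1, s2, hF⟩ := sym_core C hφ g1 hG hP hS hA hW hD
  have := hN.finite LN
  have hs : ∀ (g : cl (gp nets) LN) (y : Γ ⧸ H), g • y = φ g • y := fun _ _ => rfl
  set x := nodeX nets (cl (gp nets) LN) (fun y : Γ ⧸ H => (γ t)⁻¹ • y) ((1 : Γ) : Γ ⧸ H) PA with hx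
  have x0 : x 0 = ((1 : Γ) : Γ ⧸ H) := by rw [hx, nodeX, hA.1, List.foldl_nil]
  rw [mapL_eq] at hV hV0
  have hb := fun v hv => node_card hN C hF ho.le (allL_iff.1 hV v hv)
  obtain ⟨u1, -⟩ := uni_card (x := x) hb
  refine ⟨hb, fun y => ?_⟩
  have h3 : (γ t)⁻¹ ∈ setStab Γ _ u1 := by
    rintro y ⟨k, hk, g, rfl⟩
    obtain ⟨v, hv, rfl⟩ := List.mem_map.1 hk
    obtain ⟨k', hk', g', e⟩ := node_closed hN C s1 s2 hn h0 hF (allL_iff.1 hV v hv) g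
    exact ⟨k', hk', g', e.symm⟩
  have h4 : cl γ LΓ ≤ setStab Γ _ u1 := cl_le.2 fun b hb => by
    rcases hP.2.2.1 b hb with h | h | h
    · rintro y ⟨k, hk, g, rfl⟩
      refine ⟨k, hk, ⟨gp nets b, mem_cl h⟩ * g, ?_⟩
      have := hφ [b] (by simpa using h)
      simp only [ev_single] at this
      simp only [hs, map_mul, mul_smul, this]
    · rw [h]; exact (Subgroup.inv_mem_iff _).1 h3
    · rw [h, (g1.2 t hP.1).2]; exact h3
  obtain ⟨a, rfl⟩ := QuotientGroup.mk_surjective y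
  have h5 := h4 (ht ▸ Subgroup.mem_top a) (x 0) ⟨0, hV0, MulAction.mem_orbit_self _⟩
  rw [x0] at h5
  simpa using h5

end

end Cfsg.Lib.Comp
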