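import Cfsg.Agent.Lib.MatB.F2
import Cfsg.Agent.Lib.Comp.Fast

/-!
# Matrices over the field with three elements, packed into one natural number (two bit planes)
-/

namespace Cfsg.Lib.MatB.T3

open Cfsg.Lib.Comp

/-- The value of two bits. -/
def vb (a b : Bool) : ZMod 3 := (if a then 1 else 0) - (if b then 1 else 0)

/-- Entry `p` of `A`, the second plane starting at `m`. -/
def en (m A p : ℕ) : ZMod 3 := vb (A.testBit p) (A.testBit (m + p))

theorem vb_step (c1 c2 x y p q : Bool) (hc : (c1 && c2) = false) (hx : (x && y) = false) (hp : (p && q) = false) :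
    (((c2 || ((x && q) ^^ (y && p))) ^^ ((c1 || ((x && q) ^^ (y && p))) ^^ (c2 || ((x && p) ^^ (y && q))))) &&
      ((c1 || ((x && p) ^^ (y && q))) ^^ ((c1 || ((x && q) ^^ (y && p))) ^^ (c2 || ((x && p) ^^ (y && q)))))) = false ∧
    vb ((c2 || ((x && q) ^^ (y && p))) ^^ ((c1 || ((x && q) ^^ (y && p))) ^^ (c2 || ((x && p) ^^ (y && q)))))
      ((c1 || ((x && p) ^^ (y && q))) ^^ ((c1 || ((x && q) ^^ (y && p))) ^^ (c2 || ((x && p) ^^ (y && q))))) =
      vb c1 c2 + vb x y * vb p q := by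
  revert c1 c2 x y p q; decide

theorem vb_nrm (a b : Bool) : ((a ^^ (a && b)) && (b ^^ (a && b))) = false ∧ vb (a ^^ (a && b)) (b ^^ (a && b)) = vb a b := by
  revert a b; decide

/-- Sharing without evaluation. -/
def lz {α : Type} (x : ℕ) (k : ℕ → α) : α := k x

/-- The main loop of the product. -/
noncomputable def lp (n R a1 a2 b1 b2 : ℕ) (K : ℕ → ℕ → ℕ) (k : ℕ) : ℕ → ℕ → ℕ :=
  Nat.rec (motive := fun _ => ℕ → ℕ → ℕ) K (fun j ih c1 c2 =>
    lz (Nat.land (Nat.shiftRight a1 j) R) fun x => lz (Nat.land (Nat.shiftRight a2 j) R) fun y =>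
    lz (look b1 n j) fun p => lz (look b2 n j) fun q =>
    lz (Nat.xor (Nat.mul x p) (Nat.mul y q)) fun P => lz (Nat.xor (Nat.mul x q) (Nat.mul y p)) fun Q =>
    lz (Nat.xor (Nat.lor c1 Q) (Nat.lor c2 P)) fun t =>
    forceH (Nat.xor (Nat.lor c2 Q) t) fun d1 => forceH (Nat.xor (Nat.lor c1 P) t) fun d2 => ih d1 d2) k

theorem lp_spec {n r a1 a2 b1 b2 : ℕ} (ha : ∀ p, (a1.testBit p && a2.testBit p) = false)
    (hb : ∀ p, (b1.testBit p && b2.testBit p) = false) (K : ℕ → ℕ → ℕ) (m c1 c2 : ℕ) :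
    ∃ d1 d2, lp n (rep n r) a1 a2 b1 b2 K m c1 c2 = K d1 d2 ∧ ∀ i < r, ∀ k < n,
      (c1.testBit (i * n + k) && c2.testBit (i * n + k)) = false →
      vb (d1.testBit (i * n + k)) (d2.testBit (i * n + k)) = vb (c1.testBit (i * n + k)) (c2.testBit (i * n + k)) +
        ∑ j ∈ Finset.range m, vb (a1.testBit (i * n + j)) (a2.testBit (i * n + j)) *
          vb (b1.testBit (j * n + k)) (b2.testBit (j * n + k)) := by
  induction m generalizing c1 c2 with
  | zero => exact ⟨c1, c2, rfl, fun i _ k _ _ => by simp⟩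
  | succ m ih =>
    set x := (a1 >>> m) &&& rep n r
    set y := (a2 >>> m) &&& rep n r
    set P := (x * look b1 n m) ^^^ (y * look b2 n m) with hP
    set Q := (x * look b2 n m) ^^^ (y * look b1 n m) with hQ
    obtain ⟨d1, d2, e, h⟩ := ih ((c2 ||| Q) ^^^ ((c1 ||| Q) ^^^ (c2 ||| P))) ((c1 ||| P) ^^^ ((c1 ||| Q) ^^^ (c2 ||| P)))
    refine ⟨d1, d2, e, fun i hi k hk hc => ?_⟩
    have hm : ∀ a b, ((((a >>> m) &&& rep n r) * look b n m).testBit (i * n + k)) =
        (a.testBit (i * n + m) && b.testBit (m * n + k)) := fun a b => by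
      rw [F2.bit_mask_mul (look_lt _ _ _) hk, testBit_look, Nat.testBit_shiftRight, add_comm m, mul_comm n m]
      simp only [hi, hk, decide_true, Bool.true_and]
    have h1 := vb_step _ _ _ _ _ _ hc (ha (i * n + m)) (hb (m * n + k))
    have h2 := h i hi k hk
    simp only [Nat.testBit_xor, Nat.testBit_or, hP, hQ, x, y, hm] at h2
    rw [h2 h1.1, h1.2, Finset.sum_range_succ]
    ring

/-- Rows of `A` (`m` entries, selected by `R`) times the matrix `B`. -/
noncomputable def mu (n m R A B : ℕ) : ℕ :=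
  forceH A fun A => forceH B fun B => lz (Nat.shiftRight A m) fun a2 => lz (Nat.shiftRight B (Nat.mul n n)) fun b2 =>
    lz (Nat.land A a2) fun s => lz (Nat.land B b2) fun t =>
    forceH (Nat.xor (look A m 0) s) fun a1 => forceH (Nat.xor a2 s) fun a2 =>
    forceH (Nat.xor (look B (Nat.mul n n) 0) t) fun b1 => forceH (Nat.xor b2 t) fun b2 =>
    lp n R a1 a2 b1 b2 (fun d1 d2 => Nat.lor (look d1 m 0) (Nat.shiftLeft d2 m)) n 0 0

theorem nrm_aux (m A p : ℕ) :
    ((look A m 0 ^^^ (A &&& A >>> m)).testBit p && (A >>> m ^^^ (A &&& A >>> m)).testBit p) = false ∧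
    (p < m → vb ((look A m 0 ^^^ (A &&& A >>> m)).testBit p) ((A >>> m ^^^ (A &&& A >>> m)).testBit p) = en m A p) := by
  simp only [Nat.testBit_xor, Nat.testBit_and, testBit_look, Nat.testBit_shiftRight, mul_zero, zero_add, en]
  by_cases hp : p < m
  · simp only [hp, decide_true, Bool.true_and]
    exact ⟨(vb_nrm _ _).1, fun _ => (vb_nrm _ _).2⟩
  · simp only [hp, decide_false, Bool.false_and, false_imp_iff, and_true]
    cases A.testBit p <;> cases A.testBit (m + p) <;> rfl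

theorem en_mu {n r i k : ℕ} (hi : i < r) (hk : k < n) (A B : ℕ) :
    en (r * n) (mu n (r * n) (rep n r) A B) (i * n + k) =
      ∑ j ∈ Finset.range n, en (r * n) A (i * n + j) * en (n * n) B (j * n + k) := by
  obtain ⟨d1, d2, e, h⟩ := lp_spec (n := n) (r := r) (fun p => (nrm_aux (r * n) A p).1) (fun p => (nrm_aux (n * n) B p).1)
    (fun d1 d2 => Nat.lor (look d1 (r * n) 0) (Nat.shiftLeft d2 (r * n))) n 0 0
  have e1 : mu n (r * n) (rep n r) A B = look d1 (r * n) 0 ||| d2 <<< (r * n) := e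
  have h1 := h i hi k hk (by simp)
  have h2 : i * n + k < r * n := by nlinarith
  rw [e1, en]
  simp only [Nat.testBit_or, testBit_look, Nat.testBit_shiftLeft, mul_zero, zero_add, h2, decide_true, Bool.true_and,
    show ¬ (i * n + k ≥ r * n) by omega, show ¬ (r * n + (i * n + k) < r * n) by omega, decide_false, Bool.false_and,
    Bool.or_false, Bool.false_or, ge_iff_le, Nat.le_add_right, Nat.add_sub_cancel_left]
  rw [h1, Nat.zero_testBit, show vb false false = 0 from rfl, zero_add]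
  refine Finset.sum_congr rfl fun j hj => ?_
  rw [Finset.mem_range] at hj
  rw [(nrm_aux _ _ _).2 (by nlinarith), (nrm_aux _ _ _).2 (by nlinarith)]

/-- The matrix coded by `A`. -/
def tM (n A : ℕ) : Matrix (Fin n) (Fin n) (ZMod 3) := Matrix.of fun i j => en (n * n) A (i * n + j)

/-- The vector coded by `v`. -/
def tV (n v : ℕ) : Fin n → ZMod 3 := fun j => en n v j

/-- Product of matrices. -/
noncomputable def mM (n R A B : ℕ) : ℕ := mu n (Nat.mul n n) R A B

/-- Vector times matrix. -/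
noncomputable def mV (n v B : ℕ) : ℕ := mu n n 1 v B

theorem tM_mM (n A B : ℕ) : tM n (mM n (rep n n) A B) = tM n A * tM n B := by
  ext i k
  rw [Matrix.mul_apply]
  exact (en_mu i.2 k.2 A B).trans (Finset.sum_range fun j => en (n * n) A (i * n + j) * en (n * n) B (j * n + k))

theorem tV_mV (n v B : ℕ) : tV n (mV n v B) = Matrix.vecMul (tV n v) (tM n B) := by
  ext k
  have := en_mu (n := n) (r := 1) (i := 0) Nat.one_pos k.2 v B
  simp only [zero_mul, zero_add, one_mul] at this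
  rw [show rep n 1 = 1 by simp [rep]] at this
  unfold Matrix.vecMul dotProduct
  exact this.trans (Finset.sum_range fun j => en n v j * en (n * n) B (j * n + k))

/-- An entry as a number. -/
def ent (m A p : ℕ) : ℕ := Nat.mod (Nat.add (look A 1 p) (Nat.mul 2 (look A 1 (Nat.add m p)))) 3

theorem look_one (A p : ℕ) : look A 1 p = if A.testBit p then 1 else 0 := by
  refine Nat.eq_of_testBit_eq fun j => ?_
  rw [testBit_look]
  rcases j with _ | j <;> cases h : A.testBit p <;> simp [h, Nat.testBit_succ]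

theorem ent_eq (m A p : ℕ) : (ent m A p : ZMod 3) = en m A p ∧ ent m A p < 3 := by
  refine ⟨?_, Nat.mod_lt _ (by norm_num)⟩
  change (((look A 1 p + 2 * look A 1 (m + p)) % 3 : ℕ) : ZMod 3) = _
  rw [look_one, look_one, en]
  cases A.testBit p <;> cases A.testBit (m + p) <;> rfl

theorem en_ne {m A B p q : ℕ} (h : Nat.beq (ent m A p) (ent m B q) = false) : en m A p ≠ en m B q := fun e => by
  rw [← Bool.not_eq_true, beq_tt] at h
  rw [← (ent_eq _ _ _).1, ← (ent_eq _ _ _).1, ZMod.natCast_eq_natCast_iff', Nat.mod_eq_of_lt (ent_eq _ _ _).2,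
    Nat.mod_eq_of_lt (ent_eq _ _ _).2] at e
  exact h e

theorem en_eq {m A B p q : ℕ} (h : Nat.beq (ent m A p) (ent m B q) = true) : en m A p = en m B q := by
  rw [← (ent_eq _ _ _).1, ← (ent_eq _ _ _).1, beq_tt.1 h]

theorem tM_ne {n A B p : ℕ} (hp : p < n * n) (h : Nat.beq (ent (n * n) A p) (ent (n * n) B p) = false) :
    tM n A ≠ tM n B := fun e => by
  have hn : 0 < n := Nat.pos_of_ne_zero fun h => by simp [h] at hp
  have := congrFun (congrFun e ⟨p / n, Nat.div_lt_of_lt_mul hp⟩) ⟨p % n, Nat.mod_lt _ hn⟩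
  simp only [tM, Matrix.of_apply, Nat.div_add_mod'] at this
  exact en_ne h this

/-- The constants. -/
structure Cx (n R I : ℕ) : Prop where
  hR : R = rep n n
  hI : tM n I = 1

theorem cx_of {n R I : ℕ} (h : cnd (Nat.beq R (rep n n)) (cnd (Nat.beq (Nat.shiftRight I (Nat.mul n n)) 0)
    (allN n fun i => Nat.beq (look I n i) (Nat.shiftLeft 1 i)) false) false = true) : Cx n R I := by
  rw [cnd_tt, cnd_tt, beq_tt, beq_tt] at h
  refine ⟨h.1, ?_⟩
  ext i j
  have := congrArg (Nat.testBit · j) (beq_tt.1 (allN_iff.1 h.2.2 i i.2))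
  have h2 := congrArg (Nat.testBit · (i * n + j)) h.2.1
  simp only [testBit_look, j.2, decide_true, Bool.true_and, shl_eq, Nat.one_shiftLeft, Nat.testBit_two_pow] at this
  simp only [shr_eq, Nat.testBit_shiftRight, Nat.zero_testBit, Nat.mul_eq] at h2
  change en (n * n) I (i * n + j) = _
  rw [en, h2, mul_comm, this, Matrix.one_apply]
  by_cases e : i = j <;> simp [Fin.ext_iff.not.1, vb, e]

/-- `A` codes `u`. -/
def Rp (n : ℕ) (u : GL (Fin n) (ZMod 3)) (A : ℕ) : Prop := (u : Matrix (Fin n) (Fin n) (ZMod 3)) = tM n A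

/-- Value of a word. -/
noncomputable def evM (n R I : ℕ) (T : ℕ → ℕ) (w : List ℕ) : ℕ :=
  List.rec (motive := fun _ => ℕ) I (fun x _ ih => mM n R (T x) ih) w

/-- Powers. -/
noncomputable def pwM (n R I A e : ℕ) : ℕ := forceH A fun a => Nat.rec (motive := fun _ => ℕ) I (fun _ ih => mM n R a ih) e

open Classical in
/-- The letters as invertible matrices. -/
noncomputable def uv (n : ℕ) (T : ℕ → ℕ) (x : ℕ) : GL (Fin n) (ZMod 3) :=
  if h : IsUnit (tM n (T x)) then h.unit else 1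

noncomputable def ivM (n R I : ℕ) (T iv : ℕ → ℕ) : Bool :=
  cnd (Nat.beq (T 0) I) (allN 64 fun x => cnd (Nat.ble (iv x) 63) (Nat.beq (mM n R (T (iv x)) (T x)) I) false) false

noncomputable def relM (n R I : ℕ) (T : ℕ → ℕ) (Q : List (List ℕ × ℕ)) : Bool :=
  allL Q fun r => cnd (small r.1) (Nat.beq (pwM n R I (evM n R I T r.1) (Nat.succ r.2)) I) false

/-- Straight line programs. -/
noncomputable def slpM (n R I : ℕ) (D : List (ℕ × ℕ)) : List ℕ → (List ℕ → Bool) → Bool :=
  List.rec (motive := fun _ => List ℕ → (List ℕ → Bool) → Bool) (fun acc K => K acc)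
    (fun d _ ih acc K => forceH (mM n R (nth I acc d.1) (nth I acc d.2)) fun c => ih (c :: acc) K) D

section
variable {n R I A B Z : ℕ} {u v : GL (Fin n) (ZMod 3)} {T iv : ℕ → ℕ}

theorem Rp.eq (h : Rp n u A) (h' : Rp n v B) (e : Nat.beq A B = true) : u = v :=
  Units.ext (by rw [h, h', beq_tt.1 e])

theorem Rp.ne (h : Rp n u A) (h' : Rp n v B) {p : ℕ} (hp : p < n * n)
    (e : Nat.beq (ent (n * n) A p) (ent (n * n) B p) = false) : u ≠ v := fun h1 => tM_ne hp e (by rw [← h, ← h', h1])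

theorem Cx.one (C : Cx n R I) : Rp n 1 I := C.hI.symm

theorem Cx.mul (C : Cx n R I) (h : Rp n u A) (h' : Rp n v B) : Rp n (u * v) (mM n R A B) := by
  rw [Rp, C.hR, tM_mM, ← h, ← h', Units.val_mul]

theorem Cx.pow (C : Cx n R I) (h : Rp n u A) (e : ℕ) : Rp n (u ^ e) (pwM n R I A e) := by
  rw [pwM, forceH_eq]
  induction e with
  | zero => exact C.one
  | succ e ih => rw [pow_succ']; exact C.mul h ih

theorem Rp.vec (h : Rp n u A) (w : ℕ) :
    tV n (mV n w A) = Matrix.vecMul (tV n w) (u : Matrix (Fin n) (Fin n) (ZMod 3)) := by rw [tV_mV, h]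

theorem Rp.uv (h : Rp n u A) : uv n (fun x => x) A = u := by
  unfold T3.uv
  rw [dif_pos (h ▸ u.isUnit)]
  exact Units.ext h.symm

theorem Cx.ivok (C : Cx n R I) (h : ivM n R I T iv = true) : IvOK (uv n T) iv ∧ ∀ x < 64, Rp n (uv n T x) (T x) := by
  unfold ivM at h
  rw [cnd_tt, beq_tt] at h
  have h1 : ∀ x < 64, iv x < 64 ∧ tM n (T (iv x)) * tM n (T x) = 1 := fun x hx => by
    have := allN_iff.1 h.2 x hx
    rw [cnd_tt, ble_tt, beq_tt] at this
    exact ⟨by omega, by rw [← tM_mM, ← C.hR, this.2, C.hI]⟩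
  have h2 : ∀ x < 64, Rp n (uv n T x) (T x) := fun x hx => by
    unfold uv Rp; rw [dif_pos ((Matrix.isUnit_iff_isUnit_det _).2 (Matrix.isUnit_det_of_left_inverse (h1 x hx).2))]; rfl
  refine ⟨⟨(h2 0 (by norm_num)).eq C.one (beq_tt.2 h.1), fun x hx => ⟨(h1 x hx).1, ?_⟩⟩, h2⟩
  rw [eq_inv_iff_mul_eq_one]
  exact Units.ext (by rw [Units.val_mul, h2 x hx, h2 _ (h1 x hx).1, (h1 x hx).2]; rfl)

theorem Cx.ev (C : Cx n R I) {δ : ℕ → GL (Fin n) (ZMod 3)} (h : ∀ x < 64, Rp n (δ x) (T x)) {w : List ℕ}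
    (hw : small w = true) : Rp n (ev δ w) (evM n R I T w) := by
  replace hw := small_lt hw
  induction w with
  | nil => exact C.one
  | cons x t ih => rw [ev_cons]; exact C.mul (h x (hw x (by simp))) (ih fun y hy => hw y (by simp [hy]))

theorem Cx.rels (C : Cx n R I) {δ : ℕ → GL (Fin n) (ZMod 3)} (h : ∀ x < 64, Rp n (δ x) (T x))
    {Q : List (List ℕ × ℕ)} (hQ : relM n R I T Q = true) : Rels δ Q := fun r hr => by
  have := allL_iff.1 hQ r hr
  rw [cnd_tt] at this
  exact (C.pow (C.ev h this.1) _).eq C.one this.2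

variable {Γ : Type*} [Group Γ] {f : Γ →* GL (Fin n) (ZMod 3)} {H : Subgroup Γ}

/-- `A` codes an element of `H`. -/
def In (n : ℕ) (f : Γ →* GL (Fin n) (ZMod 3)) (H : Subgroup Γ) (A : ℕ) : Prop := ∃ g ∈ H, Rp n (f g) A

theorem Cx.nth (C : Cx n R I) {acc : List ℕ} (h : ∀ A ∈ acc, In n f H A) (i : ℕ) : In n f H (nth I acc i) := by
  rcases nth_mem I acc i with e | e
  · rw [e]; exact ⟨1, H.one_mem, by rw [map_one]; exact C.one⟩
  · exact h _ e

theorem Cx.slp (C : Cx n R I) {D : List (ℕ × ℕ)} {acc : List ℕ} {K : List ℕ → Bool} (h : ∀ A ∈ acc, In n f H A)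
    (hb : slpM n R I D acc K = true) : ∃ l, K l = true ∧ ∀ i, In n f H (Comp.nth I l i) := by
  induction D generalizing acc with
  | nil => exact ⟨acc, hb, C.nth h⟩
  | cons d t ih =>
    have e : slpM n R I (d :: t) acc K = forceH (mM n R (Comp.nth I acc d.1) (Comp.nth I acc d.2))
      fun c => slpM n R I t (c :: acc) K := rfl
    rw [e, forceH_eq] at hb
    refine ih (fun A hA => ?_) hb
    rcases List.mem_cons.1 hA with rfl | hA
    · obtain ⟨a, a1, a2⟩ := C.nth h d.1
      obtain ⟨b, b1, b2⟩ := C.nth h d.2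
      exact ⟨a * b, H.mul_mem a1 b1, by rw [map_mul]; exact C.mul a2 b2⟩
    · exact h A hA

/-- An element of prime order. -/
noncomputable def ordB (n R I A p i : ℕ) : Bool :=
  forceH A fun a => cnd (Nat.beq (ent (n * n) a i) (ent (n * n) I i)) false (Nat.beq (pwM n R I a p) I)

theorem Cx.ord (C : Cx n R I) (h : Rp n u A) {p i : ℕ} (hp : p.Prime) (hi : i < n * n)
    (hb : ordB n R I A p i = true) : orderOf u = p := by
  have := Fact.mk hp
  replace hb := cnd_ff.1 ((forceH_eq _ _).symm.trans hb)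
  exact orderOf_eq_prime ((C.pow h p).eq C.one hb.2) (h.ne C.one hi hb.1)

/-- `A` and `B` commute. -/
noncomputable def comB (n R A B : ℕ) : Bool := Nat.beq (mM n R A B) (mM n R B A)

theorem Cx.com (C : Cx n R I) (h : Rp n u A) (h' : Rp n v B) (e : comB n R A B = true) :
    Commute u v := (C.mul h h').eq (C.mul h' h) e

/-- Generators of an extraspecial group of order `p ^ 3`. -/
noncomputable def cubeB (n R I A B Z p i : ℕ) : Bool :=
  cnd (Nat.beq (mM n R B A) (mM n R (mM n R A B) Z)) (cnd (comB n R A Z) (cnd (comB n R B Z)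
    (cnd (Nat.beq (pwM n R I A p) I) (cnd (Nat.beq (pwM n R I B p) I) (ordB n R I Z p i) false) false) false) false) false

theorem Cx.cube (C : Cx n R I) (ha : In n f H A) (hb : In n f H B) (hz : In n f H Z) {p i : ℕ} (hp : p.Prime)
    (hi : i < n * n) (h : cubeB n R I A B Z p i = true) : p ^ 3 ∣ Nat.card f.range := by
  obtain ⟨a, -, ha⟩ := ha
  obtain ⟨b, -, hb⟩ := hb
  obtain ⟨z, -, hz⟩ := hz
  unfold cubeB at h
  simp only [cnd_tt] at h
  have h6 := C.ord hz hp hi h.2.2.2.2.2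
  exact F2.cube_dvd hp ((C.mul hb ha).eq (C.mul (C.mul ha hb) hz) h.1) (C.com ha hz h.2.1) (C.com hb hz h.2.2.1)
    ((C.pow ha p).eq C.one h.2.2.2.1) ((C.pow hb p).eq C.one h.2.2.2.2.1)
    (h6 ▸ pow_orderOf_eq_one _) (fun e => by rw [e, orderOf_one] at h6; exact hp.one_lt.ne h6) ⟨a, rfl⟩ ⟨b, rfl⟩

end

/-- One step of a unipotent chain. -/
theorem uni_step {n : ℕ} {δ : ℕ → GL (Fin n) (ZMod 3)} {a : ℕ} {T : List ℕ} {v : Fin n → ZMod 3} {p : Fin n}
    (h : ∀ x ∈ a :: T, ∀ y ∈ a :: T, Matrix.vecMul (Matrix.vecMul v (δ x).val - v) (δ y).val = Matrix.vecMul v (δ x).val - v)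
    (h1 : Matrix.vecMul v (δ a).val p ≠ v p) (h2 : ∀ x ∈ T, Matrix.vecMul v (δ x).val p = v p) :
    3 * Nat.card (cl δ T) ∣ Nat.card (cl δ (a :: T)) := by
  have k1 : ∀ w, (∀ y ∈ a :: T, Matrix.vecMul w (δ y).val = w) → ∀ g ∈ cl δ (a :: T), Matrix.vecMul w g.val = w := by
    intro w hw g hg
    induction hg using Subgroup.closure_induction with
    | mem y hy => obtain ⟨x, hx, rfl⟩ := hy; exact hw x hx
    | one => simp
    | mul x y _ _ a1 a2 => rw [Units.val_mul, ← Matrix.vecMul_vecMul, a1, a2]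
    | inv x _ a1 => conv_lhs => rw [← a1]
                    rw [Matrix.vecMul_vecMul, ← Units.val_mul, mul_inv_cancel, Units.val_one, Matrix.vecMul_one]
  have k0 : ∀ g g' : GL (Fin n) (ZMod 3), Matrix.vecMul v (g * g').val - v =
      Matrix.vecMul (Matrix.vecMul v g.val - v) g'.val + (Matrix.vecMul v g'.val - v) := fun g g' => by
    rw [Units.val_mul, ← Matrix.vecMul_vecMul, Matrix.sub_vecMul]; abel
  have k2 : ∀ g ∈ cl δ (a :: T), ∀ g' ∈ cl δ (a :: T),
      Matrix.vecMul (Matrix.vecMul v g.val - v) g'.val = Matrix.vecMul v g.val - v := by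
    intro g hg
    induction hg using Subgroup.closure_induction with
    | mem y hy => obtain ⟨x, hx, rfl⟩ := hy; exact k1 _ (h x hx)
    | one => simp
    | mul x y _ hy a1 a2 => intro g' hg'; rw [k0, a1 y hy, Matrix.add_vecMul, a1 g' hg', a2 g' hg']
    | inv x hx a1 =>
      intro g' hg'
      have e := k0 x x⁻¹
      rw [mul_inv_cancel, Units.val_one, Matrix.vecMul_one, sub_self, a1 _ (Subgroup.inv_mem _ hx)] at e
      rw [eq_neg_of_add_eq_zero_right e.symm, Matrix.neg_vecMul, a1 g' hg']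
  let φ : cl δ (a :: T) →* Multiplicative (ZMod 3) := MonoidHom.mk' (fun g => Multiplicative.ofAdd
    ((Matrix.vecMul v g.1.val - v) p)) fun g g' => by
      rw [← ofAdd_add, Subgroup.coe_mul, k0, k2 _ g.2 _ g'.2]; rfl
  have k3 : φ.range = ⊤ := by
    have : Fact (Nat.card (Multiplicative (ZMod 3))).Prime := ⟨by simp; norm_num⟩
    refine (φ.range.eq_bot_or_eq_top_of_prime_card).resolve_left fun e => h1 ?_
    have : φ ⟨δ a, mem_cl (by simp)⟩ ∈ φ.range := ⟨_, rfl⟩
    rw [e, Subgroup.mem_bot] at this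
    exact sub_eq_zero.1 (congrArg Multiplicative.toAdd this)
  have k4 := φ.ker.index_mul_card
  rw [Subgroup.index_ker, k3, Subgroup.card_top] at k4
  rw [← k4, show Nat.card (Multiplicative (ZMod 3)) = 3 by simp, ← Subgroup.card_map_of_injective
    (K := φ.ker) (cl δ (a :: T)).subtype_injective]
  refine Nat.mul_dvd_mul_left _ (Subgroup.card_dvd_of_le (cl_le.2 fun x hx => ?_))
  exact ⟨⟨δ x, mem_cl (by simp [hx])⟩, congrArg Multiplicative.ofAdd (sub_eq_zero.2 (h2 x hx)), rfl⟩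

/-- A unipotent chain. -/
noncomputable def uniB (n : ℕ) (G : List ℕ) : List (ℕ × ℕ) → Bool :=
  List.rec (motive := fun _ => List (ℕ × ℕ) → Bool) (fun _ => true) (fun a T ih C =>
    List.rec (motive := fun _ => Bool) false (fun d C' _ => cnd (Nat.ble (Nat.succ d.2) n)
      (cnd (Nat.beq (ent n (mV n d.1 a) d.2) (ent n d.1 d.2)) false
      (cnd (allL T fun x => Nat.beq (ent n (mV n d.1 x) d.2) (ent n d.1 d.2))
      (cnd (allL (a :: T) fun x => force (mV n d.1 x) fun vx => allL (a :: T) fun y => force (mV n d.1 y) fun vy =>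
        force (mV n vx y) fun w => allN n fun j => Nat.beq (Nat.mod (Nat.add (ent n w j) (ent n d.1 j)) 3)
          (Nat.mod (Nat.add (ent n vx j) (ent n vy j)) 3)) (ih C') false) false)) false) C) G

theorem uni_dvd {n : ℕ} {G : List ℕ} {C : List (ℕ × ℕ)} (h : ∀ A ∈ G, Rp n (uv n (fun x => x) A) A)
    (hb : uniB n G C = true) : 3 ^ G.length ∣ Nat.card (cl (uv n fun x => x) G) := by
  induction G generalizing C with
  | nil => simp
  | cons a T ih =>
    cases C with
    | nil => exact absurd hb (by change false ≠ true; simp)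
    | cons d C' =>
      change cnd _ _ _ = true at hb
      rw [cnd_tt, cnd_ff, cnd_tt, cnd_tt, ble_tt] at hb
      obtain ⟨b1, b2, b3, b4, b5⟩ := hb
      rw [List.length_cons, pow_succ']
      refine (Nat.mul_dvd_mul_left _ (ih (fun A hA => h A (by simp [hA])) b5)).trans
        (uni_step (v := tV n d.1) (p := ⟨d.2, b1⟩) (fun x hx y hy => ?_) ?_ fun x hx => ?_)
      · rw [Matrix.sub_vecMul, ← (h x hx).vec, ← (h y hy).vec, ← (h y hy).vec]
        ext j
        have c1 := allL_iff.1 b4 x hx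
        rw [force_eq] at c1
        have c2 := allL_iff.1 c1 y hy
        rw [force_eq, force_eq] at c2
        have := congrArg (Nat.cast : ℕ → ZMod 3) (beq_tt.1 (allN_iff.1 c2 j j.2))
        simp only [show ∀ a : ℕ, Nat.mod a 3 = a % 3 from fun _ => rfl, Nat.add_eq, ZMod.natCast_mod, Nat.cast_add,
          (ent_eq _ _ _).1] at this
        simp only [Pi.sub_apply, tV]
        linear_combination this
      · rw [← (h a (by simp)).vec]; exact en_ne b2
      · rw [← (h x (by simp [hx])).vec]; exact en_eq (allL_iff.1 b3 x hx)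

theorem In.uni {n : ℕ} {Γ : Type*} [Group Γ] {f : Γ →* GL (Fin n) (ZMod 3)} {H : Subgroup Γ} {G : List ℕ}
    {C : List (ℕ × ℕ)} (h : ∀ A ∈ G, In n f H A) (hb : uniB n G C = true) : 3 ^ G.length ∣ Nat.card (H.map f) := by
  refine (uni_dvd (fun A hA => ?_) hb).trans (Subgroup.card_dvd_of_le (cl_le.2 fun A hA => ?_))
  all_goals obtain ⟨g, g1, g2⟩ := h A hA
  · rw [g2.uv]; exact g2
  · rw [g2.uv]; exact ⟨g, g1, rfl⟩

end Cfsg.Lib.MatB.T3
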