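import Cfsg.Agent.Lib.Mult.Hopf

/-! # Uniqueness of maximal stem extensions of given exponent -/

namespace Cfsg.Lib.MatB

open Subgroup Cfsg Cfsg.Lib.Mult Function

theorem bij_comm {Q P L : Type*} [Group Q] [Group P] [Finite P] [Group L] [Finite L] {ξ : P →* Q} {n : ℕ}
    (h1 : Nat.card ↥(ξ.ker ⊓ commutator P) ≤ n) {f : P →* L} {η : L →* Q} (hs : Surjective f) (hη : Surjective η)
    (he : ∀ x, η (f x) = ξ x) (hp : commutator L = ⊤) (hn' : Nat.card η.ker = n) :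
    Bijective (f.comp (commutator P).subtype) := by
  have a1 : Surjective (f.comp (commutator P).subtype) := fun a => by
    have : a ∈ (commutator P).map f := by
      rw [map_commutator_eq, MonoidHom.range_eq_top.2 hs, ← commutator_def, hp]; exact mem_top a
    obtain ⟨x, hx, rfl⟩ := this
    exact ⟨⟨x, hx⟩, rfl⟩
  refine (Nat.bijective_iff_surjective_and_card _).2 ⟨a1, le_antisymm ?_ (Nat.card_le_card_of_surjective _ a1)⟩
  have a2 := η.ker.card_mul_index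
  have a3 := (ξ.comp (commutator P).subtype).ker.card_mul_index
  rw [index_ker, MonoidHom.range_eq_top.2 hη, card_top, hn'] at a2
  have a4 : Surjective (ξ.comp (commutator P).subtype) := fun q => by
    obtain ⟨a, rfl⟩ := hη q
    obtain ⟨x, rfl⟩ := a1 a
    exact ⟨x, (he x).symm⟩
  rw [index_ker, MonoidHom.range_eq_top.2 a4, card_top] at a3
  rw [← a2, ← a3]
  refine Nat.mul_le_mul_right _ (le_trans ?_ h1)
  exact Nat.card_le_card_of_injective (fun x => ⟨x.1.1, x.2, x.1.2⟩) fun a b h =>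
    Subtype.ext (Subtype.ext (congrArg (fun y : ↥(ξ.ker ⊓ commutator P) => y.1) h))

/-- Two perfect central extensions of `Q` whose kernels have exponent `p` and the largest possible order are
isomorphic over `Q`. -/
theorem stem_unique {Q A L₁ L₂ : Type*} [Group Q] [CommGroup A] [Group L₁] [Group L₂] [Finite L₁] [Finite L₂]
    (hA : HasSchurMultiplier Q A) {ξ₁ : L₁ →* Q} {ξ₂ : L₂ →* Q} (s₁ : Surjective ξ₁) (s₂ : Surjective ξ₂)
    (c₁ : ξ₁.ker ≤ center L₁) (c₂ : ξ₂.ker ≤ center L₂) (p₁ : commutator L₁ = ⊤) (p₂ : commutator L₂ = ⊤)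
    {p n : ℕ} (e₁ : ∀ x ∈ ξ₁.ker, x ^ p = 1) (e₂ : ∀ x ∈ ξ₂.ker, x ^ p = 1) (n₁ : Nat.card ξ₁.ker = n)
    (n₂ : Nat.card ξ₂.ker = n) (hn : (powMonoidHom p : A →* A).range.index ≤ n) :
    ∃ e : L₁ ≃* L₂, ∀ x, ξ₂ (e x) = ξ₁ x := by
  have := finite_mult hA
  let P : Subgroup (L₁ × L₂) := (ξ₁.comp (MonoidHom.fst _ _)).eqLocus (ξ₂.comp (MonoidHom.snd _ _))
  let f₁ : P →* L₁ := (MonoidHom.fst _ _).comp P.subtype
  let f₂ : P →* L₂ := (MonoidHom.snd _ _).comp P.subtype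
  have hf : ∀ x : P, ξ₁ (f₁ x) = ξ₂ (f₂ x) := fun x => x.2
  have t₁ : Surjective f₁ := fun a => let ⟨b, hb⟩ := s₂ (ξ₁ a); ⟨⟨(a, b), hb.symm⟩, rfl⟩
  have t₂ : Surjective f₂ := fun b => let ⟨a, ha⟩ := s₁ (ξ₂ b); ⟨⟨(a, b), ha⟩, rfl⟩
  let ξ : P →* Q := ξ₁.comp f₁
  have k₂ : ∀ x ∈ ξ.ker, f₂ x ∈ ξ₂.ker := fun x hx => (hf x).symm.trans hx
  have hc : ξ.ker ≤ center P := fun x hx => mem_center_iff.2 fun y => Subtype.ext (Prod.ext
    (mem_center_iff.1 (c₁ hx) _) (mem_center_iff.1 (c₂ (k₂ x hx)) _))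
  obtain ⟨π, hπ⟩ := mult_surj_central hA (s₁.comp t₁ : Surjective ξ) hc
  have h1 : Nat.card ↥(ξ.ker ⊓ commutator P) ≤ n := by
    have h2 : (powMonoidHom p : A →* A).range ≤ π.ker := by
      rintro _ ⟨a, rfl⟩
      rw [MonoidHom.mem_ker, powMonoidHom_apply, map_pow]
      exact Subtype.ext (Subtype.ext (Prod.ext (e₁ _ (π a).2.1) (e₂ _ (k₂ _ (π a).2.1))))
    have h3 := Nat.le_of_dvd (Nat.pos_of_ne_zero index_ne_zero_of_finite) (index_dvd_of_le h2)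
    rw [index_ker, MonoidHom.range_eq_top.2 hπ, card_top] at h3
    exact h3.trans hn
  have b₁ := bij_comm h1 t₁ s₁ (fun _ => rfl) p₁ n₁
  have b₂ := bij_comm h1 t₂ s₂ (fun x => (hf x).symm) p₂ n₂
  refine ⟨(MulEquiv.ofBijective _ b₁).symm.trans (MulEquiv.ofBijective _ b₂), fun x => ?_⟩
  obtain ⟨y, rfl⟩ := (MulEquiv.ofBijective _ b₁).surjective x
  rw [MulEquiv.trans_apply, MulEquiv.symm_apply_apply]
  exact (hf y).symm

end Cfsg.Lib.MatB
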